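import Mathlib.GroupTheory.Transfer
import Mathlib.GroupTheory.PGroup
import Mathlib.Analysis.SpecialFunctions.Complex.CircleAddChar
import Mathlib.RingTheory.ZMod.UnitsCyclic
import Mathlib.LinearAlgebra.Dimension.Constructions
import Mathlib.Algebra.Group.ConjFinite
import Mathlib.Algebra.Field.ZMod

/-!
# Class numbers of groups with a normal Sylow subgroup

For a normal subgroup `P` of index prime to `p` and a character `π : P → ℤ/p`, with `N` the stabiliser of
its kernel acting on the image through `χ : N → (ℤ/p)ˣ` with kernel `T`, we have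
`k(H) ≥ ((p - 1)/|χ(N)|) k(T/P) + 1` (`card_conjClasses_ge`).
-/

set_option autoImplicit false
set_option linter.style.haveILetI false

namespace Cfsg.Agent.ClassBound

open Subgroup

theorem card_conjClasses_le_of_surjective {G G' : Type*} [Group G] [Group G'] [Finite G]
    (f : G →* G') (hf : Function.Surjective f) :
    Nat.card (ConjClasses G') ≤ Nat.card (ConjClasses G) :=
  Nat.card_le_card_of_surjective _ (ConjClasses.map_surjective hf)

/-- An element of order `p²` in an abelian normal Sylow subgroup gives at least `p` classes. -/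
theorem card_conjClasses_of_sq {H : Type*} [Group H] [Finite H] {p : ℕ} [hp : Fact p.Prime]
    (hp2 : p ≠ 2) (P : Subgroup H) [P.Normal] (habel : ∀ a ∈ P, ∀ b ∈ P, a * b = b * a)
    (hcop : P.index.Coprime p) {x : H} (hx : x ∈ P) (hord : orderOf x = p ^ 2) :
    p ≤ Nat.card (ConjClasses H) := by
  classical
  have : NeZero (p ^ 2) := ⟨pow_ne_zero _ hp.out.pos.ne'⟩
  have : Fact (1 < p ^ 2) := ⟨Nat.one_lt_pow two_ne_zero hp.out.one_lt⟩
  let R := (ZMod (p ^ 2))ˣ
  let xp : ZMod (p ^ 2) → H := fun u => x ^ u.val
  have hxp : x ^ (p ^ 2) = 1 := hord ▸ pow_orderOf_eq_one x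
  have hmul : ∀ u v : ZMod (p ^ 2), xp (u * v) = xp u ^ v.val := fun u v => by
    show x ^ (u * v).val = (x ^ u.val) ^ v.val
    rw [← pow_mul, ZMod.val_mul, ← pow_eq_pow_mod _ hxp]
  have hinj : ∀ u v : ZMod (p ^ 2), xp u = xp v → u = v := fun u v h => by
    have h' := pow_inj_mod.1 (h : x ^ u.val = x ^ v.val)
    rw [hord, Nat.mod_eq_of_lt (ZMod.val_lt u), Nat.mod_eq_of_lt (ZMod.val_lt v)] at h'
    exact ZMod.val_injective _ h'
  have hauto : ∀ (g : H) (u : R), g * x * g⁻¹ = xp u → u ^ (p - 1) = 1 := by
    intro g u hg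
    have hn : ∀ n : ℕ, g ^ n * x * (g ^ n)⁻¹ = xp ((u ^ n : R) : ZMod (p ^ 2)) := by
      intro n
      induction n with
      | zero => simp [xp, ZMod.val_one]
      | succ n ih =>
        rw [pow_succ' g, pow_succ' u, Units.val_mul, hmul, ← hg, conj_pow]
        calc g * g ^ n * x * (g * g ^ n)⁻¹ = g * (g ^ n * x * (g ^ n)⁻¹) * g⁻¹ := by group
          _ = _ := by rw [ih]
    have h1 : u ^ P.index = 1 := by
      refine Units.ext (hinj _ _ ?_)
      rw [← hn, habel _ (P.pow_index_mem g) x hx, mul_inv_cancel_right]
      simp [xp, ZMod.val_one]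
    have h2 : u ^ (p * (p - 1)) = 1 := by
      have h := pow_card_eq_one' (x := u)
      rwa [Nat.card_eq_fintype_card, ZMod.card_units_eq_totient, Nat.totient_prime_pow hp.out two_pos,
        show p ^ (2 - 1) = p by simp] at h
    rw [← orderOf_dvd_iff_pow_eq_one] at h1 h2 ⊢
    exact (Nat.Coprime.coprime_dvd_left h1 hcop).dvd_of_dvd_mul_left h2
  have := Fintype.ofFinite (ConjClasses H)
  let f : R → ConjClasses H := fun u => ConjClasses.mk (xp u)
  have hfib : ∀ c ∈ Finset.univ.image f, (Finset.univ.filter fun u => f u = c).card ≤ p - 1 := by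
    intro c hc
    obtain ⟨u₀, -, rfl⟩ := Finset.mem_image.1 hc
    have hcyc : IsCyclic R := ZMod.isCyclic_units_of_prime_pow p hp.out hp2 2
    refine le_trans (Finset.card_le_card_of_injOn (fun u => u₀⁻¹ * u) ?_
      (fun a _ b _ h => mul_left_cancel h))
      (IsCyclic.card_pow_eq_one_le (Nat.sub_pos_of_lt hp.out.one_lt) : (Finset.univ.filter fun u : R => u ^ (p - 1) = 1).card ≤ p - 1)
    intro u hu
    simp only [Finset.coe_filter, Finset.mem_univ, true_and, Set.mem_setOf_eq] at hu ⊢
    obtain ⟨g, hg⟩ := isConj_iff.1 (ConjClasses.mk_eq_mk_iff_isConj.1 hu.symm)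
    -- `g` conjugates `xp u₀` to `xp u`
    refine hauto g _ ?_
    have e : x = xp (u₀ : ZMod (p ^ 2)) ^ ((u₀⁻¹ : R) : ZMod (p ^ 2)).val := by
      rw [← hmul, Units.mul_inv]
      simp [xp, ZMod.val_one]
    conv_lhs => rw [e]
    rw [← conj_pow, hg, ← hmul]
    congr 1
    rw [Units.val_mul, mul_comm]
  have h := Finset.card_le_mul_card_image (f := f) Finset.univ (p - 1) hfib
  rw [Finset.card_univ, ZMod.card_units_eq_totient, Nat.totient_prime_pow hp.out two_pos,
    show p ^ (2 - 1) = p by simp, mul_comm] at h
  rw [Nat.card_eq_fintype_card]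
  exact (Nat.le_of_mul_le_mul_left h (Nat.sub_pos_of_lt hp.out.one_lt)).trans (Finset.card_le_univ _)

theorem sum_char_eq_zero {P : Type*} [Group P] [Fintype P] {p : ℕ} [Fact p.Prime] (L : P → ZMod p)
    (hL : ∀ a b, L (a * b) = L a + L b) {y : P} (hy : L y ≠ 0) :
    ∑ a : P, (ZMod.stdAddChar (L a) : ℂ) = 0 := by
  have h : (ZMod.stdAddChar (L y) : ℂ) * ∑ a : P, (ZMod.stdAddChar (L a) : ℂ)
      = ∑ a : P, (ZMod.stdAddChar (L a) : ℂ) := by
    rw [Finset.mul_sum]
    exact Fintype.sum_equiv (Equiv.mulLeft y) _ _ fun a => by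
      rw [Equiv.coe_mulLeft, hL, AddChar.map_add_eq_mul]
  by_contra hne
  refine hy (ZMod.injective_stdAddChar ?_)
  rw [AddChar.map_zero_eq_one]
  exact mul_right_cancel₀ hne (h.trans (one_mul _).symm)

section Setting

variable {H : Type*} [Group H] [Finite H] {p : ℕ} [hp : Fact p.Prime] (P : Subgroup H) [hPn : P.Normal]
  (π : P →* Multiplicative (ZMod p))

/-- The additive value of the character. -/
def pa (y : P) : ZMod p := Multiplicative.toAdd (π y)

omit [Finite H] hPn in
theorem pa_mul (a b : P) : pa P π (a * b) = pa P π a + pa P π b := by simp [pa, toAdd_mul]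

omit [Finite H] hPn in
theorem pa_pow (a : P) (n : ℕ) : pa P π (a ^ n) = n * pa P π a := by
  simp [pa, toAdd_pow, nsmul_eq_mul]

omit [Finite H] in
theorem conjNormal_mul (g h : H) (y : P) :
    MulAut.conjNormal (g * h) y = MulAut.conjNormal g (MulAut.conjNormal h y) := by
  rw [map_mul, MulAut.mul_apply]

/-- The stabiliser of the kernel of the character. -/
def kerStab : Subgroup H :=
  { carrier := {h | ∀ y : P, pa P π y = 0 → pa P π (MulAut.conjNormal h y) = 0}
    one_mem' := fun y hy => by simpa using hy
    mul_mem' := fun {a b} ha hb y hy => by rw [conjNormal_mul]; exact ha _ (hb y hy)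
    inv_mem' := fun {a} ha y hy => by
      have hpow : ∀ j : ℕ, pa P π (MulAut.conjNormal (a ^ j) y) = 0 := by
        intro j
        induction j with
        | zero => simpa using hy
        | succ j ih => rw [pow_succ', conjNormal_mul]; exact ha _ ih
      have h := hpow (orderOf a - 1)
      have e : a ^ (orderOf a - 1) = a⁻¹ := by
        apply eq_inv_of_mul_eq_one_left
        rw [← pow_succ, Nat.sub_add_cancel (orderOf_pos a), pow_orderOf_eq_one]
      rwa [e] at h }

theorem mem_kerStab {h : H} :
    h ∈ kerStab P π ↔ ∀ y : P, pa P π y = 0 → pa P π (MulAut.conjNormal h y) = 0 := Iff.rfl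

theorem pa_conj_of_mem (a b : P) :
    pa P π (MulAut.conjNormal (a : H) b) = pa P π b := by
  have e : MulAut.conjNormal (a : H) b = a * b * a⁻¹ := Subtype.ext (by simp)
  rw [e, pa_mul, pa_mul]
  have : pa P π a + pa P π a⁻¹ = 0 := by rw [← pa_mul, mul_inv_cancel]; simp [pa]
  linear_combination this

theorem le_kerStab : P ≤ kerStab P π := fun a ha y hy =>
  (pa_conj_of_mem P π ⟨a, ha⟩ y).trans hy

variable (hπ : Function.Surjective π)

include hπ in
theorem pa_surjective : Function.Surjective (pa P π) := fun a => by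
  obtain ⟨y, hy⟩ := hπ (Multiplicative.ofAdd a)
  exact ⟨y, by simp [pa, hy]⟩

/-- An element where the character takes the value one. -/
noncomputable def gen : P := (pa_surjective P π hπ 1).choose

theorem pa_gen : pa P π (gen P π hπ) = 1 := (pa_surjective P π hπ 1).choose_spec

theorem pa_conj_eq (n : kerStab P π) (y : P) :
    pa P π (MulAut.conjNormal (n : H) y)
      = pa P π (MulAut.conjNormal (n : H) (gen P π hπ)) * pa P π y := by
  set x := gen P π hπ
  set i := (pa P π y).val
  have h0 : pa P π ((x ^ i)⁻¹ * y) = 0 := by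
    have h1 := pa_mul P π (x ^ i) ((x ^ i)⁻¹ * y)
    rw [mul_inv_cancel_left, pa_pow, pa_gen, mul_one, ZMod.natCast_zmod_val] at h1
    linear_combination -h1
  have h2 : y = x ^ i * ((x ^ i)⁻¹ * y) := (mul_inv_cancel_left _ _).symm
  conv_lhs => rw [h2]
  rw [map_mul, pa_mul, map_pow, pa_pow, n.2 _ h0, add_zero, ZMod.natCast_zmod_val, mul_comm]

/-- The action on the image of the character. -/
noncomputable def chi : kerStab P π →* (ZMod p)ˣ :=
  MonoidHom.toHomUnits
    { toFun := fun n => pa P π (MulAut.conjNormal (n : H) (gen P π hπ))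
      map_one' := by simp [pa_gen]
      map_mul' := fun a b => by
        rw [Subgroup.coe_mul, conjNormal_mul, pa_conj_eq P π hπ a] }

theorem pa_conj (n : kerStab P π) (y : P) :
    pa P π (MulAut.conjNormal (n : H) y) = (chi P π hπ n : ZMod p) * pa P π y :=
  pa_conj_eq P π hπ n y

/-- The stabiliser of the character. -/
noncomputable def fix : Subgroup (kerStab P π) := (chi P π hπ).ker

/-- `P` inside the stabiliser of the character. -/
noncomputable def inFix : Subgroup (fix P π hπ) := (P.subgroupOf (kerStab P π)).subgroupOf (fix P π hπ)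

instance : (inFix P π hπ).Normal := by unfold inFix; infer_instance

theorem mem_inFix {t : fix P π hπ} : t ∈ inFix P π hπ ↔ ((t : kerStab P π) : H) ∈ P := Iff.rfl

theorem mem_fix_of_mem {a : kerStab P π} (ha : (a : H) ∈ P) : a ∈ fix P π hπ := by
  refine MonoidHom.mem_ker.2 (Units.ext ?_)
  show pa P π (MulAut.conjNormal (a : H) (gen P π hπ)) = 1
  rw [show (a : H) = ((⟨(a : H), ha⟩ : P) : H) from rfl, pa_conj_of_mem, pa_gen]

theorem pa_conj_fix (t : fix P π hπ) (y : P) :
    pa P π (MulAut.conjNormal ((t : kerStab P π) : H) y) = pa P π y := by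
  rw [pa_conj P π hπ, show chi P π hπ t = 1 from t.2, Units.val_one, one_mul]

/-- The restriction of the character. -/
noncomputable def piFix : inFix P π hπ →* Multiplicative (ZMod p) where
  toFun a := π ⟨_, (mem_inFix P π hπ).1 a.2⟩
  map_one' := map_one π
  map_mul' a b := map_mul π ⟨_, (mem_inFix P π hπ).1 a.2⟩ ⟨_, (mem_inFix P π hπ).1 b.2⟩

/-- An extension of the character to its stabiliser. -/
noncomputable def psi (t : fix P π hπ) : ZMod p :=
  Multiplicative.toAdd (MonoidHom.transfer (piFix P π hπ) t) * ((inFix P π hπ).index : ZMod p)⁻¹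

theorem psi_mul (a b : fix P π hπ) : psi P π hπ (a * b) = psi P π hπ a + psi P π hπ b := by
  simp [psi, add_mul]

theorem psi_one : psi P π hπ 1 = 0 := by simp [psi]

theorem transfer_piFix (t : fix P π hπ) :
    MonoidHom.transfer (piFix P π hπ) t
      = piFix P π hπ ⟨t ^ (inFix P π hπ).index, (inFix P π hπ).pow_index_mem t⟩ := by
  classical
  set K := inFix P π hπ
  letI := K.fintypeQuotientOfFiniteIndex
  rw [MonoidHom.transfer_eq_prod_quotient_orbitRel_zpowers_quot]
  let m : Quotient (MulAction.orbitRel (zpowers t) (fix P π hπ ⧸ K)) → ℕ :=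
    fun q => Function.minimalPeriod (t • ·) q.out
  have hmem : ∀ q, t ^ m q ∈ K := fun q => by
    have h := QuotientGroup.out_conj_pow_minimalPeriod_mem K t q.out
    have := (inferInstance : K.Normal).conj_mem _ h q.out.out
    simpa [mul_assoc, m] using this
  calc _ = ∏ q, piFix P π hπ ⟨t ^ m q, hmem q⟩ := by
        refine Finset.prod_congr rfl fun q _ => ?_
        apply Multiplicative.toAdd.injective
        let w : P := ⟨_, (mem_inFix P π hπ).1 (hmem q)⟩
        show pa P π ⟨_, _⟩ = pa P π w
        rw [← pa_conj_fix P π hπ q.out.out⁻¹ w]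
        refine congrArg (pa P π) (Subtype.ext ?_)
        simp [w, m]
        rfl
    _ = piFix P π hπ ⟨t ^ K.index, K.pow_index_mem t⟩ := by
        let wit : ∀ s : Finset (Quotient (MulAction.orbitRel (zpowers t) (fix P π hπ ⧸ K))),
            t ^ (∑ q ∈ s, m q) ∈ K := fun s => by
          induction s using Finset.induction_on with
          | empty => simp
          | insert a s ha ih =>
            rw [Finset.sum_insert ha, pow_add]
            exact K.mul_mem (hmem a) ih
        have key : ∀ s, ∏ q ∈ s, piFix P π hπ ⟨t ^ m q, hmem q⟩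
            = piFix P π hπ ⟨t ^ (∑ q ∈ s, m q), wit s⟩ := by
          intro s
          induction s using Finset.induction_on with
          | empty =>
            rw [Finset.prod_empty, ← map_one (piFix P π hπ)]
            exact congrArg _ (Subtype.ext (by simp))
          | insert a s ha ih =>
            rw [Finset.prod_insert ha, ih, ← map_mul]
            exact congrArg _ (Subtype.ext (by simp [Finset.sum_insert ha, pow_add]))
        rw [key]
        refine congrArg _ (Subtype.ext ?_)
        show t ^ (∑ q, m q) = t ^ K.index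
        rw [index_eq_sum_minimalPeriod K t]

variable (hcop : P.index.Coprime p)

include hcop in
theorem index_inFix_ne_zero : ((inFix P π hπ).index : ZMod p) ≠ 0 := by
  rw [Ne, ZMod.natCast_eq_zero_iff]
  intro h
  have h1 : (inFix P π hπ).index ∣ P.index :=
    (Subgroup.relIndex_dvd_index_of_normal _ _ : (P.subgroupOf (kerStab P π)).relIndex (fix P π hπ) ∣ _).trans
      (Subgroup.relIndex_dvd_index_of_normal P (kerStab P π))
  exact hp.out.ne_one (Nat.dvd_one.1 (hcop ▸ Nat.dvd_gcd (h.trans h1) dvd_rfl : p ∣ 1))

include hcop in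
theorem psi_of_mem (t : fix P π hπ) (ht : ((t : kerStab P π) : H) ∈ P) :
    psi P π hπ t = pa P π ⟨_, ht⟩ := by
  have e : (⟨t ^ (inFix P π hπ).index, (inFix P π hπ).pow_index_mem t⟩ : inFix P π hπ)
      = (⟨t, ht⟩ : inFix P π hπ) ^ (inFix P π hπ).index := Subtype.ext rfl
  rw [psi, transfer_piFix, e, map_pow, toAdd_pow, nsmul_eq_mul]
  rw [mul_comm, ← mul_assoc, inv_mul_cancel₀ (index_inFix_ne_zero P π hπ hcop), one_mul]
  rfl

theorem psi_conj (m : kerStab P π) (t t' : fix P π hπ)
    (h : (t' : kerStab P π) = m * t * m⁻¹) :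
    psi P π hπ t' = (chi P π hπ m : ZMod p) * psi P π hπ t := by
  rw [psi, psi, transfer_piFix, transfer_piFix, ← mul_assoc]
  congr 1
  show pa P π ⟨_, _⟩ = (chi P π hπ m : ZMod p) * pa P π ⟨_, _⟩
  rw [← pa_conj]
  refine congrArg (pa P π) (Subtype.ext ?_)
  simp [h, conj_pow]

open scoped Classical in
/-- The extension of a function on the stabiliser by zero. -/
noncomputable def extFix (φ : fix P π hπ → ℂ) (x : H) : ℂ :=
  if hx : ∃ hn : x ∈ kerStab P π, (⟨x, hn⟩ : kerStab P π) ∈ fix P π hπ then φ ⟨⟨x, hx.1⟩, hx.2⟩
  else 0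

theorem extFix_coe (φ : fix P π hπ → ℂ) (t : fix P π hπ) :
    extFix P π hπ φ ((t : kerStab P π) : H) = φ t := by
  have hx : ∃ hn : ((t : kerStab P π) : H) ∈ kerStab P π,
      (⟨((t : kerStab P π) : H), hn⟩ : kerStab P π) ∈ fix P π hπ := ⟨(t : kerStab P π).2, t.2⟩
  rw [extFix, dif_pos hx]

open scoped Classical in
include hcop in
/-- **Lower bound for the class number.** -/
theorem card_conjClasses_ge :
    Nat.card ((ZMod p)ˣ ⧸ (chi P π hπ).range)
        * Nat.card (ConjClasses (fix P π hπ ⧸ inFix P π hπ)) + 1
      ≤ Nat.card (ConjClasses H) := by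
  classical
  have := Fintype.ofFinite H
  have := Fintype.ofFinite P
  set J := (ZMod p)ˣ ⧸ (chi P π hπ).range
  set K := ConjClasses (fix P π hπ ⧸ inFix P π hπ)
  have := Fintype.ofFinite J
  have := Fintype.ofFinite K
  have := Fintype.ofFinite (ConjClasses H)
  let q : fix P π hπ → K := fun t => ConjClasses.mk (QuotientGroup.mk' _ t)
  let φ : J × K → fix P π hπ → ℂ := fun i t =>
    if q t = i.2 then ZMod.stdAddChar (((i.1.out : (ZMod p)ˣ) : ZMod p) * psi P π hπ t) else 0
  let F : Option (J × K) → H → ℂ := fun o x =>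
    match o with
    | none => 1
    | some i => ∑ h : H, extFix P π hπ (φ i) (h * x * h⁻¹)
  have hF : ∀ o g x, F o (g * x * g⁻¹) = F o x := by
    rintro (_ | i) g x
    · rfl
    · exact Fintype.sum_equiv (Equiv.mulRight g) _ _ fun h => by simp [mul_assoc]
  -- translation by `P`
  have hshift : ∀ (i : J × K) (y : P) (x : H), extFix P π hπ (φ i) (y * x)
      = ZMod.stdAddChar (((i.1.out : (ZMod p)ˣ) : ZMod p) * pa P π y) * extFix P π hπ (φ i) x := by
    intro i y x
    let yn : kerStab P π := ⟨y, le_kerStab P π y.2⟩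
    let yt : fix P π hπ := ⟨yn, mem_fix_of_mem P π hπ y.2⟩
    by_cases hx : ∃ hn : x ∈ kerStab P π, (⟨x, hn⟩ : kerStab P π) ∈ fix P π hπ
    · let t : fix P π hπ := ⟨⟨x, hx.1⟩, hx.2⟩
      have e : (y : H) * x = ((yt * t : fix P π hπ) : kerStab P π) := rfl
      have hq : q (yt * t) = q t := by
        refine congrArg ConjClasses.mk ?_
        rw [map_mul, show QuotientGroup.mk' (inFix P π hπ) yt = 1 from
          (QuotientGroup.eq_one_iff yt).2 ((mem_inFix P π hπ).2 y.2), one_mul]
      rw [e, extFix_coe, show x = ((t : kerStab P π) : H) from rfl, extFix_coe]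
      simp only [φ, hq]
      split_ifs
      · rw [psi_mul, psi_of_mem P π hπ hcop yt y.2, mul_add, AddChar.map_add_eq_mul]
      · rw [mul_zero]
    · have hx' : ¬ ∃ hn : (y : H) * x ∈ kerStab P π, (⟨_, hn⟩ : kerStab P π) ∈ fix P π hπ := by
        rintro ⟨hn, hf⟩
        have h1 : x ∈ kerStab P π := by
          have := (kerStab P π).mul_mem ((kerStab P π).inv_mem yn.2) hn
          rwa [inv_mul_cancel_left] at this
        refine hx ⟨h1, ?_⟩
        have := (fix P π hπ).mul_mem ((fix P π hπ).inv_mem yt.2) hf
        have e : (yn⁻¹ * ⟨_, hn⟩ : kerStab P π) = ⟨x, h1⟩ := Subtype.ext (inv_mul_cancel_left _ _)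
        rwa [e] at this
      rw [extFix, extFix, dif_neg hx, dif_neg hx', mul_zero]
  let Φ : Option (J × K) → ConjClasses H → ℂ := fun o C => F o C.out
  have hind : LinearIndependent ℂ Φ := by
    rw [Fintype.linearIndependent_iff]
    intro a ha
    have hzero : ∀ x : H, ∑ o, a o * F o x = 0 := by
      intro x
      have h := congrFun ha (ConjClasses.mk x)
      simp only [Finset.sum_apply, Pi.smul_apply, smul_eq_mul, Pi.zero_apply] at h
      rw [← h]
      refine Finset.sum_congr rfl fun o _ => ?_
      congr 1
      obtain ⟨g, hg⟩ := isConj_iff.1 (ConjClasses.mk_eq_mk_iff_isConj.1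
        (Quotient.out_eq (ConjClasses.mk x) : ConjClasses.mk (ConjClasses.mk x).out = ConjClasses.mk x))
      exact (congrArg (F o) hg).symm.trans (hF o g _)
    have hsome : ∀ i₀ : J × K, a (some i₀) = 0 := by
      rintro ⟨j₀, C₀⟩
      obtain ⟨C, rfl⟩ := ConjClasses.exists_rep C₀
      obtain ⟨t, rfl⟩ := QuotientGroup.mk'_surjective _ C
      set c₀ : ZMod p := ((j₀.out : (ZMod p)ˣ) : ZMod p)
      have hc₀ : c₀ ≠ 0 := Units.ne_zero _
      set x₀ : H := ((t : kerStab P π) : H)
      have hS : ∑ y : P, (ZMod.stdAddChar (-(c₀ * pa P π y)) : ℂ) * ∑ o, a o * F o (y * x₀) = 0 :=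
        Finset.sum_eq_zero fun y _ => by rw [hzero, mul_zero]
      have hnone : ∑ y : P, (ZMod.stdAddChar (-(c₀ * pa P π y)) : ℂ) = 0 := by
        obtain ⟨y, hy⟩ := pa_surjective P π hπ 1
        refine sum_char_eq_zero (fun y => -(c₀ * pa P π y)) (fun a b => ?_) (y := y) ?_
        · rw [pa_mul]; ring
        · rw [hy, mul_one, neg_ne_zero]; exact hc₀
      -- the orthogonality relation
      have horth : ∀ i : J × K, ∑ y : P, (ZMod.stdAddChar (-(c₀ * pa P π y)) : ℂ) * F (some i) (y * x₀)
          = if i = (j₀, q t) then (Nat.card P : ℂ) * Nat.card (fix P π hπ) * φ i t else 0 := by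
        intro i
        set c : ZMod p := ((i.1.out : (ZMod p)ˣ) : ZMod p)
        have hstep : ∀ h : H, ∑ y : P, (ZMod.stdAddChar (-(c₀ * pa P π y)) : ℂ)
              * extFix P π hπ (φ i) (h * (y * x₀) * h⁻¹)
            = (if ∀ y : P, c * pa P π (MulAut.conjNormal h y) = c₀ * pa P π y then (Nat.card P : ℂ)
                else 0) * extFix P π hπ (φ i) (h * x₀ * h⁻¹) := by
          intro h
          have e : ∀ y : P, extFix P π hπ (φ i) (h * (y * x₀) * h⁻¹)
              = ZMod.stdAddChar (c * pa P π (MulAut.conjNormal h y))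
                * extFix P π hπ (φ i) (h * x₀ * h⁻¹) := by
            intro y
            rw [← hshift i (MulAut.conjNormal h y), MulAut.conjNormal_apply]
            congr 1
            group
          rw [Finset.sum_congr rfl fun y _ => show (ZMod.stdAddChar (-(c₀ * pa P π y)) : ℂ)
              * extFix P π hπ (φ i) (h * (y * x₀) * h⁻¹)
            = ZMod.stdAddChar (-(c₀ * pa P π y) + c * pa P π (MulAut.conjNormal h y))
              * extFix P π hπ (φ i) (h * x₀ * h⁻¹) by
              rw [e, ← mul_assoc, ← AddChar.map_add_eq_mul], ← Finset.sum_mul]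
          congr 1
          split_ifs with hh
          · simp [hh, Nat.card_eq_fintype_card]
          · push Not at hh
            obtain ⟨y, hy⟩ := hh
            refine sum_char_eq_zero (fun y => -(c₀ * pa P π y) + c * pa P π (MulAut.conjNormal h y))
              (fun a b => ?_) (y := y) ?_
            · rw [map_mul, pa_mul, pa_mul]; ring
            · exact fun h0 => hy (by linear_combination h0)
        have hcond : ∀ h : H, (∀ y : P, c * pa P π (MulAut.conjNormal h y) = c₀ * pa P π y) ↔
            i.1 = j₀ ∧ ∃ hn : h ∈ kerStab P π, (⟨h, hn⟩ : kerStab P π) ∈ fix P π hπ := by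
          intro h
          constructor
          · intro hh
            have hn : h ∈ kerStab P π := fun y hy => by
              have := hh y
              rw [hy, mul_zero] at this
              exact (mul_eq_zero.1 this).resolve_left (Units.ne_zero _)
            have hcc : i.1.out * chi P π hπ ⟨h, hn⟩ = j₀.out := by
              refine Units.ext ?_
              have := hh (gen P π hπ)
              rw [pa_gen, mul_one] at this
              exact this
            have hij : i.1 = j₀ := by
              rw [← QuotientGroup.out_eq' i.1, ← QuotientGroup.out_eq' j₀, QuotientGroup.eq, ← hcc,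
                inv_mul_cancel_left]
              exact ⟨_, rfl⟩
            refine ⟨hij, hn, ?_⟩
            rw [hij] at hcc
            exact MonoidHom.mem_ker.2 (mul_eq_left.1 hcc)
          · rintro ⟨hij, hn, hf⟩ y
            rw [pa_conj_fix P π hπ ⟨⟨h, hn⟩, hf⟩ y]
            simp only [c, c₀, hij]
        calc ∑ y : P, (ZMod.stdAddChar (-(c₀ * pa P π y)) : ℂ) * F (some i) (y * x₀)
            = ∑ h : H, ∑ y : P, (ZMod.stdAddChar (-(c₀ * pa P π y)) : ℂ)
                * extFix P π hπ (φ i) (h * (y * x₀) * h⁻¹) := by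
              simp only [F, Finset.mul_sum]
              rw [Finset.sum_comm]
          _ = ∑ h : H, extFix P π hπ (fun _ => (1 : ℂ)) h
                * (if i.1 = j₀ then (Nat.card P : ℂ) * φ i t else 0) := by
              refine Finset.sum_congr rfl fun h _ => ?_
              rw [hstep]
              by_cases hh : ∃ hn : h ∈ kerStab P π, (⟨h, hn⟩ : kerStab P π) ∈ fix P π hπ
              · let s : fix P π hπ := ⟨⟨h, hh.1⟩, hh.2⟩
                rw [show h = ((s : kerStab P π) : H) from rfl, extFix_coe, one_mul]
                by_cases hij : i.1 = j₀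
                · rw [if_pos ((hcond _).2 ⟨hij, hh.1, hh.2⟩), if_pos hij]
                  have e : ((s : kerStab P π) : H) * x₀ * ((s : kerStab P π) : H)⁻¹
                      = ((s * t * s⁻¹ : fix P π hπ) : kerStab P π) := rfl
                  rw [e, extFix_coe]
                  congr 1
                  have hq : q (s * t * s⁻¹) = q t := by
                    refine ConjClasses.mk_eq_mk_iff_isConj.2 (IsConj.symm (isConj_iff.2 ⟨QuotientGroup.mk' _ s, ?_⟩))
                    simp
                  have hψ : psi P π hπ (s * t * s⁻¹) = psi P π hπ t := by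
                    have h2 := psi_mul P π hπ s s⁻¹
                    rw [mul_inv_cancel, psi_one] at h2
                    rw [psi_mul, psi_mul]
                    linear_combination -h2
                  simp only [φ, hq, hψ]
                · rw [if_neg fun hc => hij ((hcond _).1 hc).1, if_neg hij, zero_mul]
              · rw [if_neg fun hc => hh ((hcond _).1 hc).2, zero_mul, extFix, dif_neg hh, zero_mul]
          _ = _ := by
              rw [← Finset.sum_mul]
              have hsum : ∑ h : H, extFix P π hπ (fun _ => (1 : ℂ)) h = Nat.card (fix P π hπ) := by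
                have e : ∀ h : H, extFix P π hπ (fun _ => (1 : ℂ)) h
                    = if h ∈ (fix P π hπ).map (kerStab P π).subtype then 1 else 0 := by
                  intro h
                  rw [extFix]
                  refine dite_eq_ite.trans (if_congr ⟨?_, ?_⟩ rfl rfl)
                  · exact fun hh => ⟨⟨h, hh.1⟩, hh.2, rfl⟩
                  · rintro ⟨s, hs, rfl⟩; exact ⟨s.2, hs⟩
                rw [Finset.sum_congr rfl fun h _ => e h, Finset.sum_boole, ← Fintype.card_subtype,
                  ← Nat.card_eq_fintype_card]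
                exact congrArg _ (Nat.card_congr
                  ((fix P π hπ).equivMapOfInjective _ Subtype.val_injective).toEquiv).symm
              rw [hsum]
              by_cases hij : i.1 = j₀
              · by_cases hq : q t = i.2
                · rw [if_pos hij, if_pos (Prod.ext hij hq.symm)]; ring
                · rw [if_pos hij, if_neg fun e => hq (congrArg Prod.snd e).symm]
                  simp only [φ, if_neg hq, mul_zero]
              · rw [if_neg hij, if_neg fun e => hij (congrArg Prod.fst e), mul_zero]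
      simp only [Finset.mul_sum] at hS
      rw [Finset.sum_comm] at hS
      · rw [Fintype.sum_option] at hS
        have e1 : ∑ y : P, (ZMod.stdAddChar (-(c₀ * pa P π y)) : ℂ) * (a none * F none (y * x₀)) = 0 := by
          simp only [F, mul_one, ← Finset.sum_mul, hnone, zero_mul]
        have e2 : ∀ i : J × K, ∑ y : P, (ZMod.stdAddChar (-(c₀ * pa P π y)) : ℂ)
              * (a (some i) * F (some i) (y * x₀))
            = a (some i) * if i = (j₀, q t) then
                (Nat.card P : ℂ) * Nat.card (fix P π hπ) * φ i t else 0 := by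
          intro i
          rw [← horth, Finset.mul_sum]
          exact Finset.sum_congr rfl fun y _ => by ring
        rw [e1, zero_add, Finset.sum_congr rfl fun i _ => e2 i] at hS
        simp only [mul_ite, mul_zero] at hS
        rw [Finset.sum_eq_single (j₀, q t)] at hS
        rotate_left
        · exact fun i _ hne => if_neg hne
        · exact fun h => absurd (Finset.mem_univ _) h
        rw [if_pos rfl] at hS
        refine (mul_eq_zero.1 hS).resolve_right (mul_ne_zero (mul_ne_zero ?_ ?_) ?_)
        · exact Nat.cast_ne_zero.2 Nat.card_pos.ne'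
        · exact Nat.cast_ne_zero.2 Nat.card_pos.ne'
        · simp only [φ, if_true]
          exact (AddChar.val_isUnit _ _).ne_zero
    rintro (_ | i)
    · have h := hzero 1
      rw [Fintype.sum_option, Finset.sum_eq_zero fun i _ => by rw [hsome, zero_mul], add_zero] at h
      simpa [F] using h
    · exact hsome i
  have h := hind.fintype_card_le_finrank
  rw [Module.finrank_pi, Fintype.card_option, Fintype.card_prod] at h
  simpa only [Nat.card_eq_fintype_card] using h

end Setting

end Cfsg.Agent.ClassBound
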