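import Cfsg.Agent.Lib.ClassBound.Orbits
import Mathlib.Algebra.Group.ConjFinite
import Mathlib.Algebra.Polynomial.AlgebraMap
import Mathlib.Algebra.Polynomial.Roots
import Mathlib.FieldTheory.Minpoly.Field
import Mathlib.RingTheory.SimpleModule.Basic
import Mathlib.RingTheory.LittleWedderburn
import Mathlib.RingTheory.Ideal.Quotient.Basic
import Mathlib.LinearAlgebra.FreeModule.Basic
import Mathlib.LinearAlgebra.Basis.VectorSpace
import Mathlib.FieldTheory.Finiteness

/-!
# Orbits of groups normalising a fixed-point-free element of prime order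

`scalar_bound`: `N` permutes the blocks of a fixed-point-free `z` of order `p`; if the action on `⟨z⟩` has
image of order more than `c` times the class number of the centralising part, there are at least `p/c`
orbits on vectors.
-/

set_option autoImplicit false
set_option linter.style.haveILetI false

namespace Cfsg.Agent.ClassBound

open Polynomial

theorem two_mul_lt_facts {p c : ℕ} (hp : 2 ≤ p) (hc : 2 * c < p) (hpc : p ^ 3 < 2 ^ (c + 1)) :
    4 ≤ c ∧ 11 ≤ p := by
  by_cases hc4 : c ≤ 5
  · exfalso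
    by_cases hc3 : c ≤ 2
    · have h1 : 2 ^ 3 ≤ p ^ 3 := Nat.pow_le_pow_left hp 3
      have h2 : (2 : ℕ) ^ (c + 1) ≤ 2 ^ 3 := Nat.pow_le_pow_right two_pos (by omega)
      omega
    · have h1 : 7 ^ 3 ≤ p ^ 3 := Nat.pow_le_pow_left (by omega) 3
      have h2 : (2 : ℕ) ^ (c + 1) ≤ 2 ^ 6 := Nat.pow_le_pow_right two_pos (by omega)
      omega
  · omega

/-- The centraliser ring of a simple module has dimension at most the class number. -/
theorem card_commutant_le {k M T K : Type*} [Field k] [Finite k] [AddCommGroup M] [Module k M]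
    [Finite M] [Nontrivial M] [Group T] [Group K] [Finite K] (σ : Representation k T M)
    (hsimple : ∀ W : Submodule k M, (∀ t, ∀ w ∈ W, σ t w ∈ W) → W = ⊥ ∨ W = ⊤)
    (κ : T →* K) (hκ : Function.Surjective κ) (hker : ∀ t, κ t = 1 → σ t = 1) :
    Nat.card {f : Module.End k M // ∀ t, f * σ t = σ t * f}
      ≤ Nat.card k ^ Nat.card (ConjClasses K) := by
  classical
  let R := Algebra.adjoin k (Set.range σ)
  have : IsSimpleModule R M := by
    rw [isSimpleModule_iff]
    refine ⟨fun W => ?_⟩
    let W' : Submodule k M :=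
      { carrier := W
        add_mem' := W.add_mem
        zero_mem' := W.zero_mem
        smul_mem' := fun c m hm => by
          simpa [Subalgebra.smul_def] using W.smul_mem (c • (1 : R)) hm }
    have hinv : ∀ t, ∀ w ∈ W', σ t w ∈ W' := fun t w hw =>
      W.smul_mem ⟨σ t, Algebra.subset_adjoin ⟨t, rfl⟩⟩ hw
    rcases hsimple W' hinv with h | h
    · refine Or.inl (SetLike.ext fun m => ?_)
      show m ∈ W' ↔ _
      rw [h]; simp
    · refine Or.inr (SetLike.ext fun m => ?_)
      show m ∈ W' ↔ _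
      rw [h]; simp
  have hcomm : ∀ a b : (Module.End R M), a * b = b * a := by
    have : Finite (Module.End R M) := Finite.of_injective _ DFunLike.coe_injective
    have : IsDomain (Module.End R M) := @DivisionRing.isDomain _ Module.End.instDivisionRing
    exact (Finite.isDomain_to_isField (Module.End R M)).mul_comm
  have : Module.Free (Module.End R M) M :=
    @Module.Free.of_divisionRing (Module.End R M) M Module.End.instDivisionRing _ _
  let b := Module.Free.chooseBasis (Module.End R M) M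
  have := Fintype.ofFinite M
  have : Fintype (Module.Free.ChooseBasisIndex (Module.End R M) M) := Fintype.ofInjective b b.injective
  obtain ⟨i0⟩ : Nonempty (Module.Free.ChooseBasisIndex (Module.End R M) M) := b.index_nonempty
  let τ : (M → M) → (Module.End R M) := fun φ => ∑ i, b.coord i (φ (b i))
  let cD : k → (Module.End R M) := fun c => c • (1 : (Module.End R M))
  have hcD : ∀ (c : k) (m : M), cD c • m = c • m := fun c m => rfl
  have hτsmul : ∀ (c : k) (φ : M → M), τ (fun m => c • φ m) = cD c * τ φ := by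
    intro c φ
    simp only [τ, Finset.mul_sum, ← hcD c, map_smul, smul_eq_mul]
  -- the action is linear over the centraliser ring
  let σD : T → Module.End (Module.End R M) M := fun t =>
    { toFun := σ t
      map_add' := map_add _
      map_smul' := fun δ m => (LinearMap.map_smul δ (⟨σ t, Algebra.subset_adjoin ⟨t, rfl⟩⟩ : R) m).symm }
  have htr : ∀ φ ψ : Module.End (Module.End R M) M, τ (φ * ψ : Module.End (Module.End R M) M) = τ (ψ * φ : Module.End (Module.End R M) M) := by
    intro φ ψ
    have expand : ∀ φ ψ : Module.End (Module.End R M) M, τ (φ * ψ : Module.End (Module.End R M) M)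
        = ∑ i, ∑ j, b.coord j (ψ (b i)) * b.coord i (φ (b j)) := by
      intro φ ψ
      refine Finset.sum_congr rfl fun i _ => ?_
      rw [Module.End.mul_apply]
      conv_lhs => rw [← b.sum_repr (ψ (b i))]
      rw [map_sum, map_sum]
      refine Finset.sum_congr rfl fun j _ => ?_
      rw [map_smul, map_smul, smul_eq_mul]
      rfl
    rw [expand, expand, Finset.sum_comm]
    exact Finset.sum_congr rfl fun i _ => Finset.sum_congr rfl fun j _ => hcomm _ _
  choose rep hrep using fun C : ConjClasses K => hκ C.out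
  have hclass : ∀ t, τ (σ t) = τ (σ (rep (ConjClasses.mk (κ t)))) := by
    intro t
    obtain ⟨c, hc⟩ := isConj_iff.1 (ConjClasses.mk_eq_mk_iff_isConj.1
      (Quotient.out_eq (ConjClasses.mk (κ t)) :
        ConjClasses.mk (ConjClasses.mk (κ t)).out = ConjClasses.mk (κ t)))
    obtain ⟨h, rfl⟩ := hκ c
    set s := rep (ConjClasses.mk (κ t))
    have hσ : σ (h * s * h⁻¹ * t⁻¹) = 1 := hker _ (by
      rw [map_mul, map_mul, map_mul, map_inv, map_inv, hrep, hc, mul_inv_cancel])
    have e1 : σ t = σ (h * s * h⁻¹) := by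
      have := congrArg (· * σ t) hσ
      simp only [one_mul, ← map_mul, inv_mul_cancel_right] at this
      exact this.symm
    have e2 : (σD (h * s) * σD h⁻¹ : Module.End (Module.End R M) M) = σD (h * s * h⁻¹) :=
      LinearMap.ext fun m => (rho_mul_apply σ _ _ m).symm
    have e3 : (σD h⁻¹ * σD (h * s) : Module.End (Module.End R M) M) = σD s :=
      LinearMap.ext fun m => by
        show σ h⁻¹ (σ (h * s) m) = σ s m
        rw [← rho_mul_apply, inv_mul_cancel_left]
    calc τ (σ t) = τ (σD (h * s * h⁻¹) : Module.End (Module.End R M) M) := by rw [e1]; rfl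
      _ = τ (σD s : Module.End (Module.End R M) M) := by rw [← e2, htr, e3]
  have := Fintype.ofFinite (ConjClasses K)
  let L : (ConjClasses K → k) → (Module.End R M) := fun f => ∑ C, cD (f C) * τ (σ (rep C))
  have hLsurj : Function.Surjective L := by
    intro δ
    let fδ : Module.End (Module.End R M) M := (b.coord i0).smulRight (δ • b i0)
    obtain ⟨r, hr⟩ := jacobson_density fδ (Finset.univ : Finset M)
    have hr' : (fun m => (r : Module.End k M) m) = (fδ : M → M) :=
      funext fun m => (hr m (Finset.mem_univ m)).symm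
    have hδ : τ fδ = δ := by
      simp only [τ, fδ, LinearMap.smulRight_apply, map_smul, smul_eq_mul]
      rw [Finset.sum_eq_single i0]
      · simp [Module.Basis.coord_apply]
      · intro i _ hi
        simp [Module.Basis.coord_apply, Finsupp.single_apply, Ne.symm hi]
      · exact fun h => absurd (Finset.mem_univ _) h
    have hspan : ∀ a ∈ Submodule.span k (Set.range σ), ∃ f, L f = τ (a : Module.End k M) := by
      intro a ha
      induction ha using Submodule.span_induction with
      | mem a ha =>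
        obtain ⟨t, rfl⟩ := ha
        refine ⟨Pi.single (ConjClasses.mk (κ t)) 1, ?_⟩
        rw [hclass t]
        simp only [L, cD]
        rw [Finset.sum_eq_single (ConjClasses.mk (κ t))]
        · simp
        · intro C _ hC; simp [Pi.single_eq_of_ne hC]
        · exact fun h => absurd (Finset.mem_univ _) h
      | zero => exact ⟨0, by simp [L, cD, τ]⟩
      | add x y _ _ hx hy =>
        obtain ⟨f, hf⟩ := hx
        obtain ⟨g, hg⟩ := hy
        refine ⟨f + g, ?_⟩
        simp only [L, cD, Pi.add_apply, add_smul, add_mul, Finset.sum_add_distrib] at hf hg ⊢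
        rw [hf, hg]
        simp [τ, Finset.sum_add_distrib]
      | smul c x _ hx =>
        obtain ⟨f, hf⟩ := hx
        refine ⟨c • f, ?_⟩
        show L (c • f) = τ (fun m => c • x m)
        rw [hτsmul, ← hf]
        simp only [L, Finset.mul_sum]
        refine Finset.sum_congr rfl fun C _ => ?_
        rw [← mul_assoc]
        congr 1
        refine LinearMap.ext fun m => ?_
        show (c • f C) • m = c • (f C • m)
        rw [smul_eq_mul, mul_smul]
    have hmem : (r : Module.End k M) ∈ Submodule.span k (Set.range σ) := by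
      have h := Algebra.adjoin_eq_span k (Set.range σ)
      have hcl : (Submonoid.closure (Set.range σ) : Set (Module.End k M)) = Set.range σ := by
        rw [← MonoidHom.coe_mrange, Submonoid.closure_eq]
      rw [hcl] at h
      exact h ▸ r.2
    obtain ⟨f, hf⟩ := hspan _ hmem
    exact ⟨f, hf.trans ((congrArg τ hr').trans hδ)⟩
  have hinj : ∃ j : {f : Module.End k M // ∀ t, f * σ t = σ t * f} → (Module.End R M), Function.Injective j := by
    have hR : ∀ f : Module.End k M, (∀ t, f * σ t = σ t * f) → ∀ r ∈ R, r * f = f * r := by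
      intro f hf r hr
      induction hr using Algebra.adjoin_induction with
      | mem x hx => obtain ⟨t, rfl⟩ := hx; exact (hf t).symm
      | algebraMap c => exact Algebra.commutes c f
      | add x y _ _ hx hy => rw [add_mul, mul_add, hx, hy]
      | mul x y _ _ hx hy => rw [mul_assoc, hy, ← mul_assoc, hx, mul_assoc]
    refine ⟨fun f =>
      { toFun := f.1
        map_add' := map_add _
        map_smul' := fun r m => (LinearMap.congr_fun (hR f.1 f.2 r.1 r.2) m).symm }, ?_⟩
    intro f g h
    exact Subtype.ext (LinearMap.ext fun m => LinearMap.congr_fun h m)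
  obtain ⟨j, hj⟩ := hinj
  have : Finite (Module.End R M) := Finite.of_injective _ DFunLike.coe_injective
  refine (Nat.card_le_card_of_injective j hj).trans
    ((Nat.card_le_card_of_surjective L hLsurj).trans ?_)
  rw [Nat.card_fun]

/-- The arithmetic at the end of the scalar case. -/
theorem scalar_arith {p c t e g f R O : ℕ} (hp : 2 ≤ p) (hc : 2 * c < p) (hpc : p ^ 3 < 2 ^ (c + 1))
    (hcg : c * g < f) (hg : 1 ≤ g) (hfte : f ≤ t * e) (h3t : 3 * t ≤ c)
    (hR : (2 ^ (e - g)) ^ t ≤ R) (hRO : R ≤ O * (f * p)) : p ≤ c * O := by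
  obtain ⟨hc4, -⟩ := two_mul_lt_facts hp hc hpc
  have hfc : c + 1 ≤ f := by nlinarith
  have h1 : 3 * (t * g) ≤ c * g := by rw [← mul_assoc]; exact Nat.mul_le_mul_right g h3t
  have h2 : 2 * f + 1 ≤ 3 * ((e - g) * t) := by
    rw [mul_comm (e - g) t, Nat.mul_sub]
    omega
  have hkey : ∀ f, c + 1 ≤ f → p ^ 6 * f ^ 3 ≤ 2 ^ (2 * f + 1) * c ^ 3 := by
    intro f hf
    induction f, hf using Nat.le_induction with
    | base =>
      have h : p ^ 6 ≤ (2 ^ (c + 1)) ^ 2 := by
        rw [show p ^ 6 = (p ^ 3) ^ 2 by ring]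
        exact Nat.pow_le_pow_left hpc.le 2
      have h' : (c + 1) ^ 3 ≤ 2 * c ^ 3 := by
        have : 4 * c ^ 2 ≤ c * c ^ 2 := Nat.mul_le_mul_right _ hc4
        nlinarith
      calc p ^ 6 * (c + 1) ^ 3 ≤ (2 ^ (c + 1)) ^ 2 * (2 * c ^ 3) := Nat.mul_le_mul h h'
        _ = 2 ^ (2 * (c + 1) + 1) * c ^ 3 := by ring
    | succ f hf ih =>
      have h' : (f + 1) ^ 3 ≤ 4 * f ^ 3 := by
        have : 4 * f ^ 2 ≤ f * f ^ 2 := Nat.mul_le_mul_right _ (by omega)
        nlinarith
      calc p ^ 6 * (f + 1) ^ 3 ≤ p ^ 6 * (4 * f ^ 3) := Nat.mul_le_mul_left _ h'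
        _ = 4 * (p ^ 6 * f ^ 3) := by ring
        _ ≤ 4 * (2 ^ (2 * f + 1) * c ^ 3) := Nat.mul_le_mul_left _ ih
        _ = 2 ^ (2 * (f + 1) + 1) * c ^ 3 := by ring
  have h3 : (p ^ 2 * f) ^ 3 ≤ (R * c) ^ 3 := by
    calc (p ^ 2 * f) ^ 3 = p ^ 6 * f ^ 3 := by ring
      _ ≤ 2 ^ (2 * f + 1) * c ^ 3 := hkey f hfc
      _ ≤ 2 ^ (3 * ((e - g) * t)) * c ^ 3 :=
          Nat.mul_le_mul_right _ (Nat.pow_le_pow_right two_pos h2)
      _ = ((2 ^ (e - g)) ^ t * c) ^ 3 := by ring
      _ ≤ (R * c) ^ 3 := Nat.pow_le_pow_left (Nat.mul_le_mul_right _ hR) 3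
  have h4 : p ^ 2 * f ≤ R * c := (Nat.pow_le_pow_iff_left three_ne_zero).1 h3
  refine Nat.le_of_mul_le_mul_left (?_ : p * f * p ≤ p * f * (c * O)) (Nat.mul_pos (by omega) (by omega))
  calc p * f * p = p ^ 2 * f := by ring
    _ ≤ R * c := h4
    _ ≤ O * (f * p) * c := Nat.mul_le_mul_right _ hRO
    _ = p * f * (c * O) := by ring

/-- The arithmetic when the group moves many blocks. -/
theorem blocks_arith {p c t O : ℕ} (hpc : p ^ 3 < 2 ^ (c + 1)) (ht : c < 3 * t) (hO : 2 ^ t ≤ O * t) :
    p ≤ c * O ∨ c = 0 := by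
  rcases Nat.eq_zero_or_pos c with hc | hc
  · exact Or.inr hc
  left
  have hpt : p ^ 3 < (2 ^ t) ^ 3 := by
    rw [← pow_mul]
    exact hpc.trans_le (Nat.pow_le_pow_right two_pos (by omega))
  have hpt' : p < 2 ^ t := lt_of_pow_lt_pow_left₀ 3 (Nat.zero_le _) hpt
  rcases le_or_gt t c with htc | htc
  · calc p ≤ O * t := hpt'.le.trans hO
      _ ≤ O * c := Nat.mul_le_mul_left _ htc
      _ = c * O := mul_comm _ _
  · have hp2c : p ≤ 2 ^ c := by
      have : p ^ 3 < (2 ^ c) ^ 3 := by
        rw [← pow_mul]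
        exact hpc.trans_le (Nat.pow_le_pow_right two_pos (by omega))
      exact (lt_of_pow_lt_pow_left₀ 3 (Nat.zero_le _) this).le
    have hd : c + (t - c) ≤ c * 2 ^ (t - c) := by
      have h1 : t - c + 1 ≤ 2 ^ (t - c) := Nat.lt_two_pow_self
      nlinarith
    refine Nat.le_of_mul_le_mul_right (c := t) ?_ (by omega)
    calc p * t ≤ 2 ^ c * (c + (t - c)) := Nat.mul_le_mul hp2c (by omega)
      _ ≤ 2 ^ c * (c * 2 ^ (t - c)) := Nat.mul_le_mul_left _ hd
      _ = c * 2 ^ t := by
          rw [mul_left_comm, ← pow_add, Nat.add_sub_cancel' htc.le]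
      _ ≤ c * (O * t) := Nat.mul_le_mul_left _ hO
      _ = c * O * t := (mul_assoc _ _ _).symm

/-- **The scalar case.** -/
theorem scalar_bound {k U N K : Type*} [Field k] [Finite k] [AddCommGroup U] [Module k U] [Finite U]
    [Group N] [Finite N] [Group K] [Finite K] (ρ : Representation k N U) {p : ℕ} [hp : Fact p.Prime]
    (z : Module.End k U) (hzp : z ^ p = 1) (hfpf : ∀ v, z v = v → v = 0) (hU : ∃ v : U, v ≠ 0)
    (χ : N →* (ZMod p)ˣ) (hz : ∀ n v, ρ n (z v) = (z ^ (χ n : ZMod p).val) (ρ n v))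
    (T0 : Subgroup N) [hT0n : T0.Normal] (hT0 : T0 ≤ χ.ker)
    (hidx : T0.index ≤ Nat.card χ.range * p)
    (κ : T0 →* K) (hκ : Function.Surjective κ) (hker : ∀ t : T0, κ t = 1 → ρ t = 1)
    {c : ℕ} (hc : 2 * c < p) (hpc : p ^ 3 < 2 ^ (c + 1))
    (hcg : c * Nat.card (ConjClasses K) < Nat.card χ.range) :
    p ≤ c * nOrb ρ := by
  classical
  haveI : Fact (1 < p) := ⟨hp.out.one_lt⟩
  have := Fintype.ofFinite k
  -- powers of `z`
  have hzv : ∀ m : ℕ, z ^ m = z ^ (m % p) := fun m => pow_eq_pow_mod m hzp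
  have hρpow : ∀ n (m : ℕ) v, ρ n ((z ^ m) v) = (z ^ ((χ n : ZMod p).val * m)) (ρ n v) := by
    intro n m
    induction m with
    | zero => simp
    | succ m ih =>
      intro v
      rw [pow_succ, Module.End.mul_apply, ih, hz, Nat.mul_succ, pow_add, Module.End.mul_apply]
  have hρpoly : ∀ n (a : k[X]) v,
      ρ n (aeval z a v) = aeval z (a.comp (X ^ (χ n : ZMod p).val)) (ρ n v) := by
    intro n a
    induction a using Polynomial.induction_on' with
    | add a b ha hb => intro v; simp [ha v, hb v, add_comp]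
    | monomial m r =>
      intro v
      rw [aeval_monomial, monomial_comp, aeval_mul, aeval_C, ← pow_mul, aeval_X_pow]
      simp [hρpow]
  have hpoly' : ∀ n (a : k[X]) v,
      aeval z a (ρ n v) = ρ n (aeval z (a.comp (X ^ (χ n⁻¹ : ZMod p).val)) v) := by
    intro n a v
    rw [hρpoly, comp_assoc, X_pow_comp, ← pow_mul, aeval_comp, aeval_X_pow, hzv, ← ZMod.val_mul,
      ← Units.val_mul, ← map_mul, mul_inv_cancel, map_one, Units.val_one, ZMod.val_one, pow_one]
  have hker_comm : ∀ n ∈ χ.ker, ∀ (a : k[X]) v, ρ n (aeval z a v) = aeval z a (ρ n v) := by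
    intro n hn a v
    rw [hρpoly, MonoidHom.mem_ker.1 hn, Units.val_one, ZMod.val_one, pow_one, comp_X]
  -- the ideal of a minimal invariant subspace
  obtain ⟨W1, hW1mem, hW1min⟩ := (Set.toFinite
    {W : Submodule k U | W ≠ ⊥ ∧ ∀ w ∈ W, z w ∈ W}).exists_minimal
      ⟨⊤, by
        obtain ⟨v, hv⟩ := hU
        exact fun h => hv ((Submodule.mem_bot k).1 (h ▸ Submodule.mem_top)), fun _ _ => trivial⟩
  obtain ⟨hW1ne, hW1z⟩ := hW1mem
  let I1 : Ideal k[X] :=
    { carrier := {a | ∀ w ∈ W1, aeval z a w = 0}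
      add_mem' := fun {a b} ha hb w hw => by simp [ha w hw, hb w hw]
      zero_mem' := fun w _ => by simp
      smul_mem' := fun a b hb w hw => by simp [hb w hw] }
  have hW1poly : ∀ (a : k[X]), ∀ w ∈ W1, aeval z a w ∈ W1 := by
    intro a
    induction a using Polynomial.induction_on with
    | C r => intro w hw; simpa [Algebra.algebraMap_eq_smul_one] using W1.smul_mem r hw
    | add a b ha hb => intro w hw; simpa using W1.add_mem (ha w hw) (hb w hw)
    | monomial m r ih =>
      intro w hw
      rw [pow_succ, ← mul_assoc, aeval_mul, aeval_X, Module.End.mul_apply]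
      exact ih _ (hW1z w hw)
  have hI1prime : I1.IsPrime := by
    refine Ideal.isPrime_iff.2 ⟨fun h => hW1ne ((Submodule.eq_bot_iff _).2 fun w hw => ?_), ?_⟩
    · have : (1 : k[X]) ∈ I1 := h ▸ Submodule.mem_top
      simpa using this w hw
    · intro a b hab
      by_contra hne
      rw [not_or] at hne
      obtain ⟨hna, hnb⟩ := hne
      -- the image of `b` is the whole subspace
      have hbne : W1.map (aeval z b) ≠ ⊥ := fun h => hnb fun w hw =>
        (Submodule.mem_bot k).1 (h ▸ ⟨w, hw, rfl⟩)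
      have hle : W1 ≤ W1.map (aeval z b) := by
        refine hW1min (y := W1.map (aeval z b)) ⟨hbne, ?_⟩ ?_
        · rintro _ ⟨w, hw, rfl⟩
          refine ⟨z w, hW1z w hw, ?_⟩
          show (aeval z b * z) w = (z * aeval z b) w
          congr 1
          conv_lhs => arg 2; rw [← aeval_X (R := k) z]
          conv_rhs => arg 1; rw [← aeval_X (R := k) z]
          rw [← aeval_mul, ← aeval_mul, mul_comm]
        · rintro _ ⟨w, hw, rfl⟩; exact hW1poly b w hw
      refine hna fun w hw => ?_
      obtain ⟨w', hw', rfl⟩ := hle hw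
      have := hab w' hw'
      rwa [aeval_mul, Module.End.mul_apply] at this
  have hXp : ∀ w, aeval z (X ^ p - 1 : k[X]) w = 0 := fun w => by simp [hzp]
  have hXp0 : (X ^ p - 1 : k[X]) ≠ 0 := by
    rw [← C_1]
    exact X_pow_sub_C_ne_zero hp.out.pos 1
  have hI1max : I1.IsMaximal :=
    hI1prime.isMaximal fun h =>
      hXp0 ((Submodule.mem_bot _).1 (show (X ^ p - 1 : k[X]) ∈ (⊥ : Ideal k[X]) by
        rw [← h]; exact fun w _ => hXp w))
  letI : Field (k[X] ⧸ I1) := Ideal.Quotient.field I1
  -- the blocks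
  let ζ : k[X] ⧸ I1 := Ideal.Quotient.mk I1 X
  have hζp : ζ ^ p = 1 := by
    rw [← map_pow, ← map_one (Ideal.Quotient.mk I1), Ideal.Quotient.eq]
    exact fun w _ => hXp w
  have hζ1 : ζ ≠ 1 := by
    intro h
    rw [← map_one (Ideal.Quotient.mk I1), Ideal.Quotient.eq] at h
    refine hW1ne ((Submodule.eq_bot_iff _).2 fun w hw => hfpf w ?_)
    have := h w hw
    simpa [sub_eq_zero] using this
  have hζord : orderOf ζ = p := orderOf_eq_prime hζp hζ1
  have haeval : ∀ a : k[X], aeval ζ a = Ideal.Quotient.mk I1 a := fun a => by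
    rw [show ζ = Ideal.Quotient.mkₐ k I1 X from rfl, aeval_algHom_apply, aeval_X_left_apply]
    rfl
  let I : (ZMod p)ˣ → Ideal k[X] := fun u =>
    RingHom.ker (aeval (ζ ^ (u : ZMod p).val) : k[X] →ₐ[k] k[X] ⧸ I1)
  have hImax : ∀ u, (I u).IsMaximal := fun u =>
    (RingHom.ker_isPrime _).isMaximal fun h => hXp0 ((Submodule.mem_bot _).1
      (show (X ^ p - 1 : k[X]) ∈ (⊥ : Ideal k[X]) by
        rw [← h, RingHom.mem_ker, map_sub, map_pow, aeval_X, map_one, ← pow_mul, mul_comm, pow_mul,
          hζp, one_pow, sub_self]))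
  have hI1 : I 1 = I1 := by
    ext a
    rw [RingHom.mem_ker, Units.val_one, ZMod.val_one, pow_one, haeval, Ideal.Quotient.eq_zero_iff_mem]
  have hImul : ∀ (u w : (ZMod p)ˣ) (a : k[X]),
      a ∈ I (u * w) ↔ a.comp (X ^ (w : ZMod p).val) ∈ I u := by
    intro u w a
    rw [RingHom.mem_ker, RingHom.mem_ker, aeval_comp, aeval_X_pow, ← pow_mul, Units.val_mul,
      ZMod.val_mul, ← pow_eq_pow_mod _ hζp]
  let ι := Set.range fun u : χ.range => I u
  let W : ι → Submodule k U := fun i =>
    { carrier := {v | ∀ a ∈ i.1, aeval z a v = 0}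
      add_mem' := fun {v w} hv hw a ha => by rw [map_add, hv a ha, hw a ha, add_zero]
      zero_mem' := fun a _ => map_zero _
      smul_mem' := fun r v hv a ha => by rw [map_smul, hv a ha, smul_zero] }
  let σ : N → ι → ι := fun n i =>
    ⟨Ideal.comap (aeval (X ^ (χ n⁻¹ : ZMod p).val) : k[X] →ₐ[k] k[X]) i.1, by
      obtain ⟨u, hu⟩ := i.2
      refine ⟨u * ⟨χ n⁻¹, _, rfl⟩, ?_⟩
      ext a
      rw [Ideal.mem_comap, ← hu]
      exact hImul u (χ n⁻¹) a⟩
  have hσmem : ∀ n i (a : k[X]), a ∈ (σ n i).1 ↔ a.comp (X ^ (χ n⁻¹ : ZMod p).val) ∈ i.1 :=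
    fun n i a => Iff.rfl
  have hσI : ∀ n (i : ι) (u : (ZMod p)ˣ), i.1 = I u → (σ n i).1 = I (u * χ n⁻¹) := by
    intro n i u hu
    ext a
    rw [hσmem, hu, hImul]
  have hσker : ∀ t ∈ χ.ker, ∀ i, σ t i = i := by
    intro t ht i
    refine Subtype.ext (Ideal.ext fun a => ?_)
    rw [hσmem, map_inv, MonoidHom.mem_ker.1 ht, inv_one, Units.val_one, ZMod.val_one, pow_one, comp_X]
  have hσinj : ∀ n, Function.Injective (σ n) := by
    intro n i j hij
    obtain ⟨u, hu⟩ := i.2
    obtain ⟨u', hu'⟩ := j.2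
    have h := congrArg Subtype.val hij
    rw [hσI n i _ hu.symm, hσI n j _ hu'.symm] at h
    refine Subtype.ext (Ideal.ext fun a => ?_)
    rw [← hu, ← hu']
    have key : ∀ x : (ZMod p)ˣ, a ∈ I x ↔ a.comp (X ^ (χ n : ZMod p).val) ∈ I (x * χ n⁻¹) := by
      intro x
      rw [← hImul, map_inv, inv_mul_cancel_right]
    show a ∈ I _ ↔ a ∈ I _
    rw [key, key, h]
  have hWmap : ∀ n i v, v ∈ W i → ρ n v ∈ W (σ n i) := by
    intro n i v hv a ha
    rw [hpoly', hv _ ((hσmem n i a).1 ha), map_zero]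
  let i1 : ι := ⟨I1, ⟨1, hI1⟩⟩
  have hW1W : W1 ≤ W i1 := fun w hw a ha => ha w hw
  have hreach : ∀ i : ι, ∃ n, σ n i1 = i := by
    rintro ⟨_, ⟨u, ⟨n, rfl⟩⟩, rfl⟩
    exact ⟨n⁻¹, Subtype.ext (by rw [hσI _ i1 1 hI1.symm, one_mul, inv_inv])⟩
  -- orthogonal idempotents
  have hsep : ∀ i : ι, ∃ a : k[X], a - 1 ∈ i.1 ∧ ∀ j : ι, j ≠ i → a ∈ j.1 := by
    intro i
    obtain ⟨u, hu⟩ := i.2
    have hmax : i.1.IsMaximal := hu ▸ hImax u
    have hb : ∀ j : ι, ∃ b : k[X], b ∉ i.1 ∧ (j ≠ i → b ∈ j.1) := by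
      intro j
      by_cases hji : j = i
      · exact ⟨1, fun h => hmax.ne_top ((Ideal.eq_top_iff_one _).2 h), fun h => absurd hji h⟩
      · obtain ⟨u', hu'⟩ := j.2
        have hjmax : j.1.IsMaximal := hu' ▸ hImax u'
        have hne : ¬ j.1 ≤ i.1 := fun h => hji (Subtype.ext (hjmax.eq_of_le hmax.ne_top h))
        obtain ⟨b, hb1, hb2⟩ := SetLike.not_le_iff_exists.1 hne
        exact ⟨b, hb2, fun _ => hb1⟩
    choose b hb1 hb2 using hb
    have := Fintype.ofFinite ι
    have hprod : ∏ j, b j ∉ i.1 := fun h => by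
      obtain ⟨j, -, hj⟩ := hmax.isPrime.prod_mem_iff.1 h
      exact hb1 j hj
    obtain ⟨y, i', hi', hy⟩ := hmax.exists_inv hprod
    refine ⟨y * ∏ j, b j, ?_, fun j hj => ?_⟩
    · rw [← hy, sub_add_cancel_left]
      exact i.1.neg_mem hi'
    · rw [← Finset.mul_prod_erase _ _ (Finset.mem_univ j)]
      exact Ideal.mul_mem_left _ _ (Ideal.mul_mem_right _ _ (hb2 j hj))
  choose a ha1 ha0 using hsep
  let U2 : Submodule k U :=
    { carrier := {v | ∀ b : k[X], (∀ i : ι, b ∈ i.1) → aeval z b v = 0}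
      add_mem' := fun {v w} hv hw b hb => by rw [map_add, hv b hb, hw b hb, add_zero]
      zero_mem' := fun b _ => map_zero _
      smul_mem' := fun r v hv b hb => by rw [map_smul, hv b hb, smul_zero] }
  have hWU2 : ∀ i, W i ≤ U2 := fun i v hv b hb => hv b (hb i)
  have hU2n : ∀ n, n ∈ stab ρ U2 := by
    intro n v hv b hb
    rw [hpoly', hv _ (fun i => (hσmem n i b).1 (hb _)), map_zero]
  let ρ2 : Representation k N U2 :=
    { toFun := fun n => restr ρ U2 ⟨n, hU2n n⟩
      map_one' := LinearMap.ext fun v => Subtype.ext (rho_one_apply ρ _)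
      map_mul' := fun n m => LinearMap.ext fun v => Subtype.ext (rho_mul_apply ρ _ _ _) }
  have hO : nOrb ρ2 ≤ nOrb ρ :=
    le_trans (nOrb_le_of_orbits (restr ρ U2) ρ2 fun n v => ⟨n.1, rfl⟩)
      (nOrb_restr_le ρ U2 fun n _ _ _ _ => hU2n n)
  have hcommz : ∀ (b b' : k[X]) v, aeval z b (aeval z b' v) = aeval z (b * b') v := fun b b' v => by
    rw [aeval_mul, Module.End.mul_apply]
  have hU2poly : ∀ (b : k[X]), ∀ v ∈ U2, aeval z b v ∈ U2 := by
    intro b v hv b' hb'
    rw [hcommz, mul_comm, ← hcommz, hv b' hb', map_zero]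
  have hcongr : ∀ b b' : k[X], (∀ i : ι, b - b' ∈ i.1) → ∀ v ∈ U2, aeval z b v = aeval z b' v := by
    intro b b' h v hv
    have := hv _ h
    rwa [map_sub, LinearMap.sub_apply, sub_eq_zero] at this
  have ha : ∀ i j : ι, a i - (if j = i then 1 else 0) ∈ j.1 := by
    intro i j
    split_ifs with h
    · subst h; exact ha1 j
    · rw [sub_zero]; exact ha0 i j h
  let e : ι → Module.End k U2 := fun i => (aeval z (a i)).restrict (hU2poly (a i))
  have hecoe : ∀ i (v : U2), (e i v : U) = aeval z (a i) v := fun i v => rfl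
  have heW : ∀ i v, v ∈ W i → aeval z (a i) v = v := by
    intro i v hv
    have := hv _ (ha1 i)
    rwa [map_sub, map_one, LinearMap.sub_apply, Module.End.one_apply, sub_eq_zero] at this
  let F : Blocks ρ2 ι :=
    { e := e
      σ := σ
      σ_inj := hσinj
      equivariant := fun n i v => by
        refine Subtype.ext ?_
        show aeval z (a (σ n i)) (ρ n (v : U)) = ρ n (aeval z (a i) (v : U))
        rw [hpoly']
        refine congrArg (ρ n) (hcongr _ _ (fun j => ?_) v v.2)
        have h1 : a (σ n i) - (if j = i then 1 else 0) ∈ (σ n j).1 := by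
          have := ha (σ n i) (σ n j)
          simpa only [(hσinj n).eq_iff] using this
        have h2 := (hσmem n j _).1 h1
        rw [sub_comp] at h2
        have h3 := j.1.sub_mem h2 (ha i j)
        split_ifs at h3 with hji
        · rwa [one_comp, sub_sub_sub_cancel_right] at h3
        · rwa [zero_comp, sub_zero, sub_zero] at h3
      idem := fun i v => Subtype.ext (by
        show aeval z (a i) (aeval z (a i) (v : U)) = aeval z (a i) (v : U)
        rw [hcommz]
        refine hcongr _ _ (fun j => ?_) v v.2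
        have := j.1.mul_mem_left (a i) (ha i j)
        by_cases hj : j = i
        · subst hj
          rw [if_pos rfl, mul_sub, mul_one] at this
          exact this
        · have h0 := ha0 i j hj
          exact j.1.sub_mem (j.1.mul_mem_left _ h0) h0)
      orth := fun i j v hij => Subtype.ext (by
        show aeval z (a i) (aeval z (a j) (v : U)) = 0
        rw [hcommz]
        refine v.2 _ fun l => ?_
        by_cases hl : l = i
        · subst hl; exact l.1.mul_mem_left _ (ha0 j l hij)
        · exact l.1.mul_mem_right _ (ha0 i l hl))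
      ne_zero := fun i h => by
        obtain ⟨n, rfl⟩ := hreach i
        obtain ⟨w, hw, hw0⟩ := W1.ne_bot_iff.1 hW1ne
        refine hw0 (rho_injective ρ n ?_)
        have hmem := hWmap n i1 w (hW1W hw)
        have := congrArg (fun T => ((T : Module.End k U2) ⟨ρ n w, hWU2 _ hmem⟩ : U)) h
        simp only [hecoe, heW _ _ hmem, LinearMap.zero_apply, ZeroMemClass.coe_zero] at this
        rw [this, map_zero] }
  set t := Nat.card ι
  -- the permutations of the blocks
  have hperm : Nat.card (Set.range F.σ) ≤ t := by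
    refine Nat.card_le_card_of_injective (fun s : Set.range F.σ => s.1 i1) ?_
    rintro ⟨_, n, rfl⟩ ⟨_, n', rfl⟩ h
    have h' : I (1 * χ n⁻¹) = I (1 * χ n'⁻¹) := by
      rw [← hσI n i1 1 hI1.symm, ← hσI n' i1 1 hI1.symm]
      exact congrArg Subtype.val h
    refine Subtype.ext (funext fun i => Subtype.ext ?_)
    obtain ⟨u, hu⟩ := i.2
    show (σ n i).1 = (σ n' i).1
    rw [hσI n i _ hu.symm, hσI n' i _ hu.symm]
    ext b
    rw [mul_comm, hImul, ← one_mul (χ n⁻¹), h', one_mul, ← hImul, mul_comm]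
  by_cases h3t : c < 3 * t
  · have h2t : 2 ^ t ≤ nOrb ρ * t :=
      F.two_pow_le.trans (Nat.mul_le_mul hO hperm)
    rcases blocks_arith hpc h3t h2t with h | h
    · exact h
    · obtain ⟨h4, -⟩ := two_mul_lt_facts hp.out.two_le hc hpc
      omega
  rw [not_lt] at h3t
  -- the field
  have : Module.Finite k (k[X] ⧸ I1) := by
    obtain ⟨q, hq⟩ := (IsPrincipalIdealRing.principal I1).principal
    have hq0 : q ≠ 0 := by
      rintro rfl
      have : (X ^ p - 1 : k[X]) ∈ I1 := fun w _ => hXp w
      rw [hq, Submodule.span_zero_singleton, Submodule.mem_bot] at this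
      exact hXp0 this
    refine Module.Finite.of_surjective
      (((Ideal.Quotient.mkₐ k I1).toLinearMap.comp (Submodule.subtype (degreeLT k q.natDegree))).comp
        (degreeLTEquiv k q.natDegree).symm.toLinearMap) ?_
    intro x
    obtain ⟨b, rfl⟩ := Ideal.Quotient.mk_surjective x
    suffices hex : ∃ y : degreeLT k q.natDegree, Ideal.Quotient.mk I1 (y : k[X]) = Ideal.Quotient.mk I1 b by
      obtain ⟨y, hy⟩ := hex
      refine ⟨degreeLTEquiv k q.natDegree y, ?_⟩
      show Ideal.Quotient.mk I1 (((degreeLTEquiv k q.natDegree).symm (degreeLTEquiv k q.natDegree y) :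
        degreeLT k q.natDegree) : k[X]) = _
      rw [LinearEquiv.symm_apply_apply, hy]
    refine ⟨⟨b %ₘ (q * C q.leadingCoeff⁻¹), mem_degreeLT.2 ?_⟩, ?_⟩
    · have hm : (q * C q.leadingCoeff⁻¹).Monic := monic_mul_leadingCoeff_inv hq0
      refine (degree_modByMonic_lt b hm).trans_le ?_
      rw [degree_mul_leadingCoeff_inv _ hq0]
      exact degree_le_natDegree
    · refine Ideal.Quotient.eq.2 ?_
      show b %ₘ (q * C q.leadingCoeff⁻¹) - b ∈ I1
      rw [modByMonic_eq_sub_mul_div, sub_sub_cancel_left, hq]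
      exact neg_mem (Ideal.mem_span_singleton.2 ((dvd_mul_right q _).trans (dvd_mul_right _ _)))
  have : Finite (k[X] ⧸ I1) := Module.finite_of_finite k
  set ee := Module.finrank k (k[X] ⧸ I1)
  have hfte : Nat.card χ.range ≤ t * ee := by
    have := Fintype.ofFinite χ.range
    have := Fintype.ofFinite ι
    let π : χ.range → ι := fun u => ⟨I u, u, rfl⟩
    have hfib : ∀ i ∈ Finset.univ.image π, (Finset.univ.filter fun u => π u = i).card ≤ ee := by
      intro i hi
      obtain ⟨u0, -, rfl⟩ := Finset.mem_image.1 hi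
      set x := ζ ^ ((u0.1 : (ZMod p)ˣ) : ZMod p).val
      set m := minpoly k x
      have hint : IsIntegral k x := IsIntegral.of_finite k x
      have hm0 : m ≠ 0 := minpoly.ne_zero hint
      refine le_trans (Finset.card_le_card_of_injOn (fun u => ζ ^ ((u.1 : (ZMod p)ˣ) : ZMod p).val) ?_ ?_)
        (((m.map (algebraMap k (k[X] ⧸ I1))).roots.toFinset_card_le).trans
          ((card_roots' _).trans (le_of_eq_of_le (natDegree_map _) (minpoly.natDegree_le x))))
      · intro u hu
        simp only [Finset.coe_filter, Finset.mem_univ, true_and, Set.mem_setOf_eq] at hu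
        have hmem : m ∈ I u := by
          rw [show I u = I u0 from congrArg Subtype.val hu]
          exact minpoly.aeval k x
        simp only [Finset.mem_coe, Multiset.mem_toFinset, mem_roots', IsRoot.def, eval_map,
          ← aeval_def]
        exact ⟨map_ne_zero hm0, hmem⟩
      · intro u _ u' _ huu
        exact Subtype.ext (Units.ext (ZMod.val_injective _ (pow_injOn_Iio_orderOf (x := ζ)
          (by rw [Set.mem_Iio, hζord]; exact ZMod.val_lt _)
          (by rw [Set.mem_Iio, hζord]; exact ZMod.val_lt _) huu)))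
    have h := Finset.card_le_mul_card_image (f := π) Finset.univ ee hfib
    rw [Finset.card_univ, ← Nat.card_eq_fintype_card, mul_comm] at h
    exact h.trans (Nat.mul_le_mul_right _ ((Finset.card_le_univ _).trans
      (le_of_eq Nat.card_eq_fintype_card.symm)))
  -- scalars
  choose out hout using (Ideal.Quotient.mk_surjective : Function.Surjective (Ideal.Quotient.mk I1))
  let act : k[X] ⧸ I1 → Module.End k U := fun x => aeval z (out x)
  have hact : ∀ (b : k[X]) v, v ∈ W i1 → act (Ideal.Quotient.mk I1 b) v = aeval z b v := by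
    intro b v hv
    have := hv _ (Ideal.Quotient.eq.1 (hout (Ideal.Quotient.mk I1 b)))
    rwa [map_sub, LinearMap.sub_apply, sub_eq_zero] at this
  have hWpoly : ∀ (i : ι) (b : k[X]), ∀ v ∈ W i, aeval z b v ∈ W i := by
    intro i b v hv b' hb'
    rw [hcommz, mul_comm, ← hcommz, hv b' hb', map_zero]
  have hactmul : ∀ x y v, v ∈ W i1 → act x (act y v) = act (x * y) v := by
    intro x y v hv
    conv_rhs => rw [← hout x, ← hout y, ← map_mul, hact _ v hv]
    rw [← hcommz]
  have hactone : ∀ v, v ∈ W i1 → act 1 v = v := fun v hv => by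
    rw [← map_one (Ideal.Quotient.mk I1), hact _ v hv, map_one, Module.End.one_apply]
  -- a simple submodule
  have hT0W : ∀ i, ∀ s : T0, ∀ v ∈ W i, ρ s v ∈ W i := fun i s v hv => by
    have := hWmap s i v hv
    rwa [hσker _ (hT0 s.2)] at this
  obtain ⟨M, hMmem, hMmin⟩ := (Set.toFinite
    {M : Submodule k U | M ≠ ⊥ ∧ M ≤ W i1 ∧ ∀ s : T0, ∀ m ∈ M, ρ s m ∈ M}).exists_minimal
      ⟨W i1, fun h => hW1ne (le_bot_iff.1 (h ▸ hW1W)), le_rfl, hT0W i1⟩
  obtain ⟨hMne, hMW, hMinv⟩ := hMmem
  obtain ⟨m0, hm0, hm00⟩ := M.ne_bot_iff.1 hMne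
  have : Nontrivial M := ⟨⟨⟨m0, hm0⟩, 0, fun h => hm00 (congrArg Subtype.val h)⟩⟩
  let σM : Representation k T0 M :=
    { toFun := fun s => (ρ s).restrict (hMinv s)
      map_one' := LinearMap.ext fun v => Subtype.ext (rho_one_apply ρ _)
      map_mul' := fun a b => LinearMap.ext fun v => Subtype.ext (rho_mul_apply ρ _ _ _) }
  have hsimple : ∀ W' : Submodule k M, (∀ s, ∀ w ∈ W', σM s w ∈ W') → W' = ⊥ ∨ W' = ⊤ := by
    intro W' hW'
    refine or_iff_not_imp_left.2 fun hne => ?_
    have hle : M ≤ W'.map M.subtype := by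
      refine hMmin (y := W'.map M.subtype) ⟨fun h => hne ?_, ?_, ?_⟩ (Submodule.map_subtype_le _ _)
      · exact Submodule.map_injective_of_injective M.injective_subtype (h.trans (Submodule.map_bot _).symm)
      · exact (Submodule.map_subtype_le _ _).trans hMW
      · rintro s _ ⟨w, hw, rfl⟩
        exact ⟨σM s w, hW' s w hw, rfl⟩
    refine eq_top_iff.2 fun w _ => ?_
    obtain ⟨w', hw', e⟩ := hle w.2
    rwa [Subtype.ext e] at hw'
  set g := Nat.card (ConjClasses K)
  let D' := {x : k[X] ⧸ I1 // ∀ m ∈ M, act x m ∈ M}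
  have hD' : Nat.card D' ≤ Nat.card k ^ g := by
    refine le_trans ?_ (card_commutant_le σM hsimple κ hκ
      (fun s hs => LinearMap.ext fun v => Subtype.ext (by
        show ρ s (v : U) = (v : U)
        rw [hker s hs, Module.End.one_apply])))
    have : Finite {f : Module.End k M // ∀ s, f * σM s = σM s * f} :=
      Finite.of_injective (fun f => (f.1 : M → M))
        (fun a b h => Subtype.ext (DFunLike.coe_injective h))
    refine Nat.card_le_card_of_injective
      (fun x : D' => (⟨(act x.1).restrict x.2, fun s => LinearMap.ext fun v => Subtype.ext ?_⟩ :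
        {f : Module.End k M // ∀ s, f * σM s = σM s * f})) ?_
    · exact (hker_comm _ (hT0 s.2) _ _).symm
    · intro x y h
      have h' : act x.1 m0 = act y.1 m0 :=
        congrArg (fun f => ((f : {f : Module.End k M // ∀ s, f * σM s = σM s * f}).1 ⟨m0, hm0⟩ : U)) h
      by_contra hne
      have hd : x.1 - y.1 ≠ 0 := sub_ne_zero.2 fun e => hne (Subtype.ext e)
      have hd0 : act (x.1 - y.1) m0 = 0 := by
        rw [← hout x.1, ← hout y.1, ← map_sub, hact _ _ (hMW hm0), map_sub, LinearMap.sub_apply]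
        exact sub_eq_zero.2 h'
      apply hm00
      rw [← hactone m0 (hMW hm0), ← inv_mul_cancel₀ hd, ← hactmul _ _ _ (hMW hm0), hd0, map_zero]
  -- translates
  let Tr := Set.range fun x : (k[X] ⧸ I1)ˣ => M.map (act x.1)
  have hTr : 2 ^ (ee - g) ≤ Nat.card Tr := by
    have := Fintype.ofFinite (k[X] ⧸ I1)ˣ
    have := Fintype.ofFinite Tr
    let π : (k[X] ⧸ I1)ˣ → Tr := fun x => ⟨_, x, rfl⟩
    have hfib : ∀ A ∈ Finset.univ.image π,
        (Finset.univ.filter fun x => π x = A).card ≤ Nat.card D' := by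
      intro A hA
      obtain ⟨x0, -, rfl⟩ := Finset.mem_image.1 hA
      rw [← Fintype.card_subtype, ← Nat.card_eq_fintype_card]
      refine Nat.card_le_card_of_injective (fun x : {x // π x = π x0} =>
        (⟨((x0⁻¹ * x.1 : (k[X] ⧸ I1)ˣ) : k[X] ⧸ I1), fun m hm => ?_⟩ : D')) ?_
      · have he : M.map (act x.1.1) = M.map (act x0.1) := congrArg Subtype.val x.2
        obtain ⟨m', hm', e⟩ := (he ▸ ⟨m, hm, rfl⟩ : act x.1.1 m ∈ M.map (act x0.1))
        rw [Units.val_mul, ← hactmul _ _ _ (hMW hm), ← e, hactmul _ _ _ (hMW hm'), Units.inv_mul,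
          hactone _ (hMW hm')]
        exact hm'
      · intro x y h
        exact Subtype.ext (mul_left_cancel (Units.ext (congrArg Subtype.val h)))
    have h := Finset.card_le_mul_card_image (f := π) Finset.univ _ hfib
    have hL : Fintype.card (k[X] ⧸ I1)ˣ = Nat.card k ^ ee - 1 := by
      rw [← Nat.card_eq_fintype_card, Nat.card_units, Module.natCard_eq_pow_finrank (K := k)]
    rw [Finset.card_univ, hL] at h
    by_contra hlt
    rw [not_le] at hlt
    have hq : 2 ≤ Nat.card k := Finite.one_lt_card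
    have h1 : (Finset.univ.image π).card + 1 ≤ Nat.card k ^ (ee - g) := by
      refine (Nat.succ_le_of_lt ?_).trans (Nat.pow_le_pow_left hq _)
      exact lt_of_le_of_lt ((Finset.card_le_univ _).trans (le_of_eq Nat.card_eq_fintype_card.symm)) hlt
    have h2 : Nat.card k ^ ee - 1 ≤ Nat.card k ^ g * (Finset.univ.image π).card :=
      h.trans (Nat.mul_le_mul_right _ hD')
    have h3 : 2 ≤ Nat.card k ^ g :=
      hq.trans (Nat.le_self_pow (Nat.card_pos (α := ConjClasses K)).ne' _)
    rcases le_total g ee with hge | hge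
    · have h4 : Nat.card k ^ g * ((Finset.univ.image π).card + 1) ≤ Nat.card k ^ ee := by
        refine (Nat.mul_le_mul_left _ h1).trans ?_
        rw [← pow_add, Nat.add_sub_cancel' hge]
      rw [mul_add, mul_one] at h4
      omega
    · rw [Nat.sub_eq_zero_of_le hge, pow_zero] at hlt
      have : Nonempty Tr := ⟨π 1⟩
      have : 0 < Nat.card Tr := Nat.card_pos
      omega
  -- tuples
  have hreach' := hreach
  choose nn hnn using hreach'
  choose rep hrep using fun A : Tr => A.2
  have hmemv : ∀ (A : ι → Tr) i, ρ (nn i) (act (rep (A i)).1 m0) ∈ W i := fun A i => by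
    have h := hWmap (nn i) i1 _ (hWpoly i1 (out (rep (A i)).1) m0 (hMW hm0))
    rwa [hnn] at h
  let vec : (ι → Tr) → U2 := fun A =>
    letI := Fintype.ofFinite ι
    ∑ i, ⟨ρ (nn i) (act (rep (A i)).1 m0), hWU2 i (hmemv A i)⟩
  have hcomp : ∀ A i, (F.e i (vec A) : U) = ρ (nn i) (act (rep (A i)).1 m0) := by
    intro A i
    letI := Fintype.ofFinite ι
    simp only [vec, map_sum, Submodule.coe_sum]
    have hmem := hmemv A
    rw [Finset.sum_eq_single i]
    · exact heW i _ (hmem i)
    · intro j _ hj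
      exact hmem j _ (ha0 i j hj)
    · exact fun h => absurd (Finset.mem_univ _) h
  let span0 : U → Submodule k U := fun u => Submodule.span k (Set.range fun s : T0 => ρ s u)
  have hspan_map : ∀ n u, span0 (ρ n u) = (span0 u).map (ρ n) := by
    intro n u
    simp only [span0, Submodule.map_span]
    congr 1
    rw [← Set.range_comp]
    apply Set.Subset.antisymm
    · rintro _ ⟨s, rfl⟩
      refine ⟨⟨n⁻¹ * s * n, by simpa using hT0n.conj_mem s.1 s.2 n⁻¹⟩, ?_⟩
      show ρ n (ρ (n⁻¹ * s * n) u) = ρ (s : N) (ρ n u)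
      rw [← rho_mul_apply, ← rho_mul_apply]
      congr 2
      group
    · rintro _ ⟨s, rfl⟩
      refine ⟨⟨n * s * n⁻¹, hT0n.conj_mem s.1 s.2 n⟩, ?_⟩
      show ρ (n * s * n⁻¹) (ρ n u) = ρ n (ρ (s : N) u)
      rw [← rho_mul_apply, ← rho_mul_apply, inv_mul_cancel_right]
  have hM0 : span0 m0 = M := by
    have hle : span0 m0 ≤ M := Submodule.span_le.2 (by rintro _ ⟨s, rfl⟩; exact hMinv s m0 hm0)
    refine le_antisymm hle (hMmin (y := span0 m0) ⟨?_, hle.trans hMW, ?_⟩ hle)
    · intro h
      have : m0 ∈ span0 m0 := Submodule.subset_span ⟨1, rho_one_apply ρ m0⟩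
      exact hm00 ((Submodule.mem_bot k).1 (h ▸ this))
    · intro s m hm
      induction hm using Submodule.span_induction with
      | mem x hx =>
        obtain ⟨s', rfl⟩ := hx
        exact Submodule.subset_span ⟨s * s', rho_mul_apply ρ _ _ _⟩
      | zero => rw [map_zero]; exact zero_mem _
      | add x y _ _ hx hy => rw [map_add]; exact add_mem hx hy
      | smul r x _ hx => rw [map_smul]; exact Submodule.smul_mem _ r hx
  have hYA : ∀ A i, span0 (F.e i (vec A) : U) = ((A i).1).map (ρ (nn i)) := by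
    intro A i
    rw [hcomp, hspan_map, ← hrep (A i)]
    congr 1
    show _ = M.map (act (rep (A i)).1)
    conv_rhs => rw [← hM0]
    simp only [span0, Submodule.map_span]
    congr 1
    rw [← Set.range_comp]
    congr 1
    funext s
    exact hker_comm _ (hT0 s.2) _ _
  have hequiv : ∀ n v i, span0 (F.e (σ n i) (ρ2 n v) : U) = (span0 (F.e i v : U)).map (ρ n) := by
    intro n v i
    rw [← hspan_map]
    exact congrArg span0 (congrArg Subtype.val (F.equivariant n i v))
  have hfix0 : ∀ (s : T0) v i, (span0 (F.e i v : U)).map (ρ (s : N)) = span0 (F.e i v : U) := by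
    intro s v i
    rw [← hspan_map]
    simp only [span0]
    congr 1
    apply Set.Subset.antisymm
    · rintro _ ⟨s', rfl⟩; exact ⟨s' * s, rho_mul_apply ρ _ _ _⟩
    · rintro _ ⟨s', rfl⟩
      refine ⟨s' * s⁻¹, ?_⟩
      show ρ ((s' * s⁻¹ : T0) : N) (ρ (s : N) _) = _
      rw [← rho_mul_apply, ← Subgroup.coe_mul, inv_mul_cancel_right]
  have hbound : Nat.card (ι → Tr) ≤ nOrb ρ2 * T0.index := by
    refine card_le_nOrb_mul ρ2 vec _ fun A => ?_
    rw [Subgroup.index_eq_card]
    refine Nat.card_le_card_of_injective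
      (fun B : {B // ∃ n, ρ2 n (vec A) = vec B} => (QuotientGroup.mk B.2.choose : N ⧸ T0)) ?_
    intro B B' hBB
    set n := B.2.choose
    set n' := B'.2.choose
    have hB := B.2.choose_spec
    have hB' := B'.2.choose_spec
    have hs : n⁻¹ * n' ∈ T0 := QuotientGroup.eq.1 hBB
    refine Subtype.ext (funext fun j => Subtype.ext ?_)
    obtain ⟨i, rfl⟩ := (Finite.injective_iff_surjective.1 (hσinj n)) j
    apply Submodule.map_injective_of_injective (rho_injective ρ (nn (σ n i)))
    rw [← hYA, ← hYA, ← hB, hequiv]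
    have hσ' : σ n i = σ n' i := by
      refine Subtype.ext (Ideal.ext fun b => ?_)
      have hχ : χ n⁻¹ = χ n'⁻¹ := by
        have h := MonoidHom.mem_ker.1 (hT0 hs)
        rw [map_mul, map_inv, inv_mul_eq_one] at h
        rw [map_inv, map_inv, h]
      rw [hσmem, hσmem, hχ]
    rw [← hB', hσ', hequiv]
    conv_rhs => rw [show n' = n * (n⁻¹ * n') from (mul_inv_cancel_left _ _).symm, map_mul]
    rw [Module.End.mul_eq_comp, Submodule.map_comp, hfix0 ⟨_, hs⟩]
  refine scalar_arith (t := t) (e := ee) (g := g) (R := Nat.card (ι → Tr))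
    hp.out.two_le hc hpc hcg Nat.card_pos hfte h3t ?_
    (hbound.trans (Nat.mul_le_mul hO hidx))
  rw [Nat.card_fun]
  exact Nat.pow_le_pow_left hTr t

end Cfsg.Agent.ClassBound
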