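import Cfsg.Agent.Lib.ClassBound.NonAbelian
import Cfsg.Agent.Lib.ClassBound.Classes
import Cfsg.Agent.Lib.ClassBound.Scalar
import Cfsg.Agent.Lib.Components.Fitting
import Mathlib.GroupTheory.Solvable
import Mathlib.GroupTheory.Sylow
import Mathlib.Algebra.Module.ZMod

/-!
# Class number and primes dividing the index of the Fitting subgroup

`class_bound`: if `G` is finite solvable, `p ∣ |G : F(G)|`, `2c < p` and `p³ < 2^(c+1)`, then
`p ≤ c k(G)`.
-/

set_option autoImplicit false
set_option linter.style.haveILetI false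

namespace Cfsg.Agent.ClassBound

open Subgroup

universe u

/-- The linear case: a faithful action of a group with nontrivial normal Sylow p-subgroup in coprime
characteristic. -/
theorem linear_bound {k : Type*} [Field k] [Finite k] {p : ℕ} [hp : Fact p.Prime]
    (hpk : (p : k) ≠ 0) {V : Type u} [AddCommGroup V] [Module k V] [Finite V] {H : Type*} [Group H]
    [Finite H] (ρ : Representation k H V) (hinj : Function.Injective ρ) (P : Subgroup H)
    [hPn : P.Normal] (hPp : IsPGroup p P) (hcop : P.index.Coprime p) (hP1 : P ≠ ⊥) {c : ℕ}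
    (hc : 2 * c < p) (hpc : p ^ 3 < 2 ^ (c + 1)) :
    p ≤ c * Nat.card (ConjClasses H) ∨ p ≤ c * nOrb ρ := by
  classical
  obtain ⟨hc4, hp11⟩ := two_mul_lt_facts hp.out.two_le hc hpc
  by_cases hab : ∀ a ∈ P, ∀ b ∈ P, a * b = b * a
  swap
  · push Not at hab
    obtain ⟨a, ha, b, hb, hne⟩ := hab
    right
    refine (nonabelian_bound hpk hp11 ρ P hPn hPp
      ⟨a, ha, b, hb, fun h => hne (hinj (by rw [map_mul, map_mul, h]))⟩).trans ?_
    exact Nat.le_mul_of_pos_left _ (by omega)
  by_cases hexp : ∀ a ∈ P, a ^ p = 1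
  swap
  · push Not at hexp
    obtain ⟨x, hx, hxp⟩ := hexp
    left
    obtain ⟨m, hm⟩ := (IsPGroup.iff_orderOf.1 hPp) ⟨x, hx⟩
    rw [Subgroup.orderOf_mk] at hm
    have hm2 : 2 ≤ m := by
      by_contra h
      refine hxp (orderOf_dvd_iff_pow_eq_one.1 ?_)
      rw [hm]
      exact (pow_dvd_pow p (by omega : m ≤ 1)).trans (pow_one p).dvd
    have hord : orderOf (x ^ p ^ (m - 2)) = p ^ 2 := by
      rw [orderOf_pow_of_dvd (pow_ne_zero _ hp.out.pos.ne') (hm ▸ pow_dvd_pow p (Nat.sub_le m 2)), hm,
        Nat.pow_div (Nat.sub_le m 2) hp.out.pos, Nat.sub_sub_self hm2]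
    exact (card_conjClasses_of_sq (by omega) P hab hcop (P.pow_mem hx _) hord).trans
      (Nat.le_mul_of_pos_left _ (by omega))
  let F := hypBlocks ρ (Y := P) hPp hpk hab
  obtain ⟨i, hi⟩ : ∃ i : {B : Subgroup H // IsHyp p P B ∧ proj ρ P B ≠ 0}, i.1 ≠ P := by
    by_contra hcon
    push Not at hcon
    refine hP1 ((Subgroup.eq_bot_iff_forall _).2 fun y hy => hinj ?_)
    have htop : LinearMap.eqLocus (ρ y) (LinearMap.id : V →ₗ[k] V) = ⊤ := by
      refine eq_top_of_proj_mem ρ hpk hab hexp ?_
      intro B hB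
      by_cases h0 : proj ρ P B = 0
      · rw [h0, LinearMap.range_zero]; exact bot_le
      · have hBP : B = P := hcon ⟨B, hB, h0⟩
        rintro _ ⟨v, rfl⟩
        exact rho_proj ρ hB.le (show y ∈ B from hBP ▸ hy) v
    refine LinearMap.ext fun v => ?_
    rw [rho_one_apply]
    exact (htop ▸ Submodule.mem_top : v ∈ LinearMap.eqLocus (ρ y) (LinearMap.id : V →ₗ[k] V))
  obtain ⟨B, hBhyp, hBne⟩ := i
  obtain ⟨hBP, hBc⟩ := hBhyp.resolve_left hi
  -- the character with kernel the hyperplane
  have hBn : (B.subgroupOf P).Normal := ⟨fun a ha g => by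
    have e : g * a * g⁻¹ = a := by
      rw [show g * a = a * g from Subtype.ext (hab _ g.2 _ a.2), mul_inv_cancel_right]
    rw [e]; exact ha⟩
  have hq : Nat.card (P ⧸ B.subgroupOf P) = p := by
    have h := (B.subgroupOf P).card_mul_index
    rw [Nat.card_congr (Subgroup.subgroupOfEquivOfLe hBP).toEquiv, ← hBc] at h
    rw [← Subgroup.index_eq_card]
    exact Nat.eq_of_mul_eq_mul_left Nat.card_pos h
  have hM : Nat.card (Multiplicative (ZMod p)) = p := Nat.card_zmod p
  let π : P →* Multiplicative (ZMod p) :=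
    (mulEquivOfPrimeCardEq hq hM).toMonoidHom.comp (QuotientGroup.mk' _)
  have hπs : Function.Surjective π :=
    (mulEquivOfPrimeCardEq hq hM).surjective.comp (QuotientGroup.mk'_surjective _)
  have hker : ∀ y : P, pa P π y = 0 ↔ (y : H) ∈ B := by
    intro y
    show Multiplicative.toAdd (π y) = 0 ↔ _
    rw [toAdd_eq_zero, show π y = mulEquivOfPrimeCardEq hq hM (QuotientGroup.mk' _ y)
      from rfl, MulEquiv.map_eq_one_iff, QuotientGroup.mk'_apply, QuotientGroup.eq_one_iff,
      Subgroup.mem_subgroupOf]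
  let i : {B : Subgroup H // IsHyp p P B ∧ proj ρ P B ≠ 0} := ⟨B, hBhyp, hBne⟩
  let W : Submodule k V := LinearMap.range (F.e i)
  have hfix : ∀ n ∈ kerStab P π, F.σ n i = i := by
    intro n hn
    refine Subtype.ext (Subgroup.eq_of_le_of_card_ge ?_ ?_)
    · rintro _ ⟨b, hb, rfl⟩
      exact (hker (MulAut.conjNormal n ⟨b, hBP hb⟩)).1 (hn _ ((hker _).2 hb))
    · exact (Nat.card_congr (B.equivMapOfInjective _ (MulAut.conj n).injective).toEquiv).le
  have hstab : ∀ n, n ∈ stab ρ W → n ∈ kerStab P π := by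
    intro n hn y hy
    obtain ⟨v, hv⟩ : ∃ v, F.e i v ≠ 0 := by
      by_contra hcon
      push Not at hcon
      exact hBne (LinearMap.ext hcon)
    have hσ := F.σ_eq_of_map_mem (n := n) (i := i) ⟨v, rfl⟩ hv (hn _ ⟨v, rfl⟩)
    refine (hker _).2 ?_
    have h : MulAut.conj n (y : H) ∈ B.map (MulAut.conj n).toMonoidHom := ⟨y, (hker y).1 hy, rfl⟩
    rw [show B.map (MulAut.conj n).toMonoidHom = B from congrArg Subtype.val hσ] at h
    rw [MulAut.conjNormal_apply]
    exact h
  let ρW : Representation k (kerStab P π) W :=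
    { toFun := fun n => restr ρ W ⟨n.1, F.mem_stab_of_σ_eq (hfix n.1 n.2)⟩
      map_one' := LinearMap.ext fun v => Subtype.ext (rho_one_apply ρ _)
      map_mul' := fun a b => LinearMap.ext fun v => Subtype.ext (rho_mul_apply ρ _ _ _) }
  have hO : nOrb ρW ≤ nOrb ρ :=
    (nOrb_le_of_orbits (restr ρ W) ρW fun n v => ⟨⟨n.1, hstab n.1 n.2⟩, rfl⟩).trans
      (F.nOrb_restr_le i)
  -- the class number
  set f := Nat.card (chi P π hπs).range
  set g := Nat.card (ConjClasses (fix P π hπs ⧸ inFix P π hπs))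
  have hk := card_conjClasses_ge P π hπs hcop
  by_cases hfg : f ≤ c * g
  · left
    refine le_trans ?_ (Nat.mul_le_mul_left c hk)
    have hJ : Nat.card ((ZMod p)ˣ ⧸ (chi P π hπs).range) * f = p - 1 := by
      rw [← Subgroup.card_eq_card_quotient_mul_card_subgroup, Nat.card_eq_fintype_card,
        ZMod.card_units]
    have h1 : p - 1 ≤ c * (Nat.card ((ZMod p)ˣ ⧸ (chi P π hπs).range) * g) := by
      rw [← hJ]
      calc Nat.card ((ZMod p)ˣ ⧸ (chi P π hπs).range) * f
          ≤ Nat.card ((ZMod p)ˣ ⧸ (chi P π hπs).range) * (c * g) := Nat.mul_le_mul_left _ hfg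
        _ = _ := by ring
    show p ≤ c * (Nat.card ((ZMod p)ˣ ⧸ (chi P π hπs).range) * g + 1)
    rw [mul_add, mul_one]
    omega
  rw [not_le] at hfg
  right
  -- the scalar case
  set x₀ : P := gen P π hπs
  let xn : P → kerStab P π := fun y => ⟨y, le_kerStab P π y.2⟩
  have hxn : ∀ a b, xn (a * b) = xn a * xn b := fun a b => rfl
  have hBtriv : ∀ y : P, pa P π y = 0 → ρW (xn y) = 1 := fun y hy => LinearMap.ext fun w =>
    Subtype.ext (by
      show ρ (y : H) (w : V) = w
      obtain ⟨v, hv⟩ := w.2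
      rw [← hv]
      exact rho_proj ρ hBP ((hker y).1 hy) v)
  let z : Module.End k W := ρW (xn x₀)
  have hzpow : ∀ m : ℕ, z ^ m = ρW (xn (x₀ ^ m)) := by
    intro m
    rw [← map_pow]
    rfl
  have hP_eq : ∀ y : P, ρW (xn y) = z ^ (pa P π y).val := by
    intro y
    have h0 : pa P π ((x₀ ^ (pa P π y).val)⁻¹ * y) = 0 := by
      have h := pa_mul P π (x₀ ^ (pa P π y).val) ((x₀ ^ (pa P π y).val)⁻¹ * y)
      rw [mul_inv_cancel_left, pa_pow, pa_gen, mul_one, ZMod.natCast_zmod_val] at h
      linear_combination -h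
    have e : y = x₀ ^ (pa P π y).val * ((x₀ ^ (pa P π y).val)⁻¹ * y) := (mul_inv_cancel_left _ _).symm
    conv_lhs => rw [e]
    rw [hxn, map_mul, hBtriv _ h0, mul_one, hzpow]
  have hzp : z ^ p = 1 := by
    rw [hzpow, show x₀ ^ p = 1 from Subtype.ext (by simpa using hexp _ x₀.2)]
    exact map_one ρW
  have hfpf : ∀ w, z w = w → w = 0 := by
    intro w hw
    have hzfix : ∀ m : ℕ, (z ^ m) w = w := by
      intro m
      induction m with
      | zero => simp
      | succ m ih => rw [pow_succ, Module.End.mul_apply, hw, ih]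
    have hall : ∀ y ∈ P, ρ y (w : V) = w := fun y hy => by
      have h : ρW (xn ⟨y, hy⟩) w = w := by rw [hP_eq]; exact hzfix _
      exact congrArg Subtype.val h
    have he : F.e i (w : V) = w := F.apply_of_mem_range w.2
    refine Subtype.ext ?_
    rw [← he]
    show proj ρ P B (w : V) = 0
    rw [proj_of_ne ρ hi, LinearMap.sub_apply,
      avg_of_fixed ρ (card_ne_zero_of_le hPp hpk hBP) (fun b hb => hall b (hBP hb)),
      avg_of_fixed ρ (card_ne_zero_of_le hPp hpk le_rfl) hall, sub_self]
  have hW : ∃ w : W, w ≠ 0 := by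
    by_contra hcon
    push Not at hcon
    exact hBne (LinearMap.ext fun v => congrArg Subtype.val (hcon ⟨_, v, rfl⟩))
  have hz : ∀ n w, ρW n (z w) = (z ^ (chi P π hπs n : ZMod p).val) (ρW n w) := by
    intro n w
    have e : n * xn x₀ = xn (MulAut.conjNormal (n : H) x₀) * n := Subtype.ext (by simp [xn])
    have hval : pa P π (MulAut.conjNormal (n : H) x₀) = (chi P π hπs n : ZMod p) := by
      rw [pa_conj P π hπs, pa_gen, mul_one]
    show ρW n (ρW (xn x₀) w) = _
    rw [← rho_mul_apply, e, rho_mul_apply, hP_eq, hval]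
  let T0 : Subgroup (kerStab P π) :=
    { carrier := {n | ∃ h : n ∈ fix P π hπs, psi P π hπs ⟨n, h⟩ = 0}
      one_mem' := ⟨one_mem _, psi_one P π hπs⟩
      mul_mem' := fun {a b} ha hb => ⟨mul_mem ha.1 hb.1, by
        show psi P π hπs (⟨a, ha.1⟩ * ⟨b, hb.1⟩) = 0
        rw [psi_mul, ha.2, hb.2, add_zero]⟩
      inv_mem' := fun {a} ha => ⟨inv_mem ha.1, by
        have h := psi_mul P π hπs ⟨a, ha.1⟩ ⟨a, ha.1⟩⁻¹
        rw [mul_inv_cancel, psi_one, ha.2, zero_add] at h
        exact h.symm⟩ }
  have hT0n : T0.Normal := ⟨fun a ha m => by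
    have hm : m * a * m⁻¹ ∈ fix P π hπs := (inferInstance : (chi P π hπs).ker.Normal).conj_mem a ha.1 m
    exact ⟨hm, by rw [psi_conj P π hπs m ⟨a, ha.1⟩ ⟨_, hm⟩ rfl, ha.2, mul_zero]⟩⟩
  have hT0le : T0 ≤ (chi P π hπs).ker := fun a ha => ha.1
  have hidx : T0.index ≤ f * p := by
    rw [← Subgroup.relIndex_mul_index hT0le, Subgroup.index_ker, mul_comm]
    refine Nat.mul_le_mul_left _ ?_
    let Ψ : fix P π hπs →* Multiplicative (ZMod p) :=
      { toFun := fun t => Multiplicative.ofAdd (psi P π hπs t)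
        map_one' := by rw [psi_one]; rfl
        map_mul' := fun a b => by rw [psi_mul]; rfl }
    have e : T0.subgroupOf (fix P π hπs) = Ψ.ker := by
      ext t
      rw [Subgroup.mem_subgroupOf, MonoidHom.mem_ker]
      exact ⟨fun h => congrArg Multiplicative.ofAdd h.2,
        fun h => ⟨t.2, Multiplicative.ofAdd.injective h⟩⟩
    show (T0.subgroupOf (fix P π hπs)).index ≤ p
    rw [e, Subgroup.index_ker]
    exact (Subgroup.card_le_card_group _).trans (le_of_eq (Nat.card_zmod p))
  let κ : T0 →* fix P π hπs ⧸ inFix P π hπs :=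
    (QuotientGroup.mk' _).comp (Subgroup.inclusion hT0le)
  have hκ : Function.Surjective κ := by
    intro q
    obtain ⟨t, rfl⟩ := QuotientGroup.mk'_surjective _ q
    let y : P := x₀ ^ (-psi P π hπs t).val
    let yt : fix P π hπs := ⟨xn y, mem_fix_of_mem P π hπs y.2⟩
    have h0 : psi P π hπs (yt * t) = 0 := by
      rw [psi_mul, psi_of_mem P π hπs hcop yt y.2]
      show pa P π y + _ = 0
      rw [pa_pow, pa_gen, mul_one, ZMod.natCast_zmod_val, neg_add_cancel]
    refine ⟨⟨(yt * t : fix P π hπs), (yt * t).2, h0⟩, ?_⟩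
    show QuotientGroup.mk' _ (yt * t) = _
    rw [map_mul, show QuotientGroup.mk' (inFix P π hπs) yt = 1 from
      (QuotientGroup.eq_one_iff yt).2 ((mem_inFix P π hπs).2 y.2), one_mul]
  have hκker : ∀ t : T0, κ t = 1 → ρW t = 1 := by
    intro t ht
    have hP : ((t : kerStab P π) : H) ∈ P :=
      (mem_inFix P π hπs).1 ((QuotientGroup.eq_one_iff _).1 ht)
    obtain ⟨hf, hψ⟩ := t.2
    rw [psi_of_mem P π hπs hcop _ hP] at hψ
    exact hBtriv ⟨_, hP⟩ hψ
  haveI := hT0n
  exact (scalar_bound ρW z hzp hfpf hW (chi P π hπs) hz T0 hT0le hidx κ hκ hκker hc hpc hfg).trans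
    (Nat.mul_le_mul_left c hO)

/-- A nontrivial solvable group has a nontrivial normal elementary abelian subgroup. -/
theorem exists_normal_exponent_prime (G : Type*) [Group G] [Finite G] [Group.IsSolvable G]
    [Nontrivial G] : ∃ (r : ℕ) (V : Subgroup G), r.Prime ∧ V.Normal ∧ V ≠ ⊥ ∧
      (∀ a ∈ V, ∀ b ∈ V, a * b = b * a) ∧ ∀ a ∈ V, a ^ r = 1 := by
  classical
  have hex : ∃ n, derivedSeries G n = ⊥ := (Group.isSolvable_def G).1 inferInstance
  obtain ⟨n, hn⟩ : ∃ n, Nat.find hex = n + 1 := by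
    refine Nat.exists_eq_succ_of_ne_zero fun h0 => ?_
    have := Nat.find_spec hex
    rw [h0, derivedSeries_zero] at this
    exact top_ne_bot this
  let A := derivedSeries G n
  have hA : A ≠ ⊥ := Nat.find_min hex (by omega)
  have hA1 : ⁅A, A⁆ = ⊥ := by
    rw [← derivedSeries_succ, ← hn]
    exact Nat.find_spec hex
  have hAc : ∀ a ∈ A, ∀ b ∈ A, a * b = b * a := fun a ha b hb =>
    mem_centralizer_iff.1 ((commutator_eq_bot_iff_le_centralizer.1 hA1) hb) a ha
  have hAn : A.Normal := derivedSeries_normal G n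
  obtain ⟨r, hr, hrd⟩ := Nat.exists_prime_and_dvd (n := Nat.card A)
    (fun h => hA (Subgroup.card_eq_one.1 h))
  haveI := Fact.mk hr
  obtain ⟨a, ha⟩ := exists_prime_orderOf_dvd_card' (G := A) r hrd
  let V : Subgroup G :=
    { carrier := {x | x ∈ A ∧ x ^ r = 1}
      one_mem' := ⟨one_mem _, one_pow r⟩
      mul_mem' := fun {x y} hx hy => ⟨mul_mem hx.1 hy.1, by
        rw [(show Commute x y from hAc x hx.1 y hy.1).mul_pow, hx.2, hy.2, one_mul]⟩
      inv_mem' := fun {x} hx => ⟨inv_mem hx.1, by rw [inv_pow, hx.2, inv_one]⟩ }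
  have haV : (a : G) ∈ V := ⟨a.2, by
    rw [← ha, ← SubgroupClass.coe_pow, pow_orderOf_eq_one, Subgroup.coe_one]⟩
  refine ⟨r, V, hr, ⟨fun x hx g => ⟨hAn.conj_mem x hx.1 g, by
      rw [conj_pow, hx.2, mul_one, mul_inv_cancel]⟩⟩, fun h => ?_,
    fun x hx y hy => hAc x hx.1 y hy.1, fun x hx => hx.2⟩
  have h1 : (a : G) = 1 := Subgroup.mem_bot.1 (h ▸ haV)
  rw [show a = 1 from Subtype.ext h1, orderOf_one] at ha
  exact hr.ne_one ha.symm

/-- The action on a normal elementary abelian subgroup: the class numbers control the image. -/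
theorem image_bound {G : Type u} [Group G] [Finite G] {r : ℕ} [Fact r.Prime] {p : ℕ} [Fact p.Prime]
    (hrp : r ≠ p) {W : Type u} [AddCommGroup W] [Module (ZMod r) W] [Finite W]
    (ρ : Representation (ZMod r) G W) (K : Subgroup G) (hKn : K.Normal)
    (hK : ∀ x ∈ K, ∃ j, ρ (x ^ p ^ j) = 1) (hidx : K.index.Coprime p)
    (hne : ∃ x ∈ K, ρ x ≠ 1) (hO : nOrb ρ ≤ Nat.card (ConjClasses G))
    {c : ℕ} (hc : 2 * c < p) (hpc : p ^ 3 < 2 ^ (c + 1)) :
    p ≤ c * Nat.card (ConjClasses G) := by
  have : Finite (Module.End (ZMod r) W) := Finite.of_injective _ DFunLike.coe_injective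
  let φ := (MonoidHom.toHomUnits ρ).rangeRestrict
  have hφ : Function.Surjective φ := MonoidHom.rangeRestrict_surjective _
  haveI : (K.map φ).Normal := hKn.map φ hφ
  have hP : IsPGroup p (K.map φ) := by
    rintro ⟨_, x, hx, rfl⟩
    obtain ⟨j, hj⟩ := hK x hx
    refine ⟨j, Subtype.ext ?_⟩
    show φ x ^ p ^ j = 1
    apply imRep_injective ρ
    rw [← map_pow, imRep_rangeRestrict, hj, map_one]
  have hcop : (K.map φ).index.Coprime p := by
    refine Nat.Coprime.coprime_dvd_left ?_ hidx
    exact Subgroup.index_map_dvd (H := K) hφ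
  have hP1 : K.map φ ≠ ⊥ := by
    intro h
    obtain ⟨x, hx, hx1⟩ := hne
    refine hx1 ?_
    rw [← imRep_rangeRestrict ρ x, show φ x = 1 from Subgroup.mem_bot.1 (h ▸ ⟨x, hx, rfl⟩), map_one]
  have hpk : (p : ZMod r) ≠ 0 := by
    rw [Ne, ZMod.natCast_eq_zero_iff]
    exact fun h => hrp ((Nat.prime_dvd_prime_iff_eq Fact.out Fact.out).1 h)
  rcases linear_bound hpk (imRep ρ) (imRep_injective ρ) (K.map φ) hP hcop hP1 hc hpc with h | h
  · exact h.trans (Nat.mul_le_mul_left c (card_conjClasses_le_of_surjective φ hφ))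
  · exact h.trans (Nat.mul_le_mul_left c ((nOrb_imRep_le ρ).trans hO))

theorem class_bound_aux {p : ℕ} [hp : Fact p.Prime] {c : ℕ} (hc : 2 * c < p)
    (hpc : p ^ 3 < 2 ^ (c + 1)) : ∀ (n : ℕ) (G : Type u) [Group G] [Finite G] [Group.IsSolvable G],
    Nat.card G ≤ n → p ∣ (Cfsg.fittingSubgroup G).index → p ≤ c * Nat.card (ConjClasses G) := by
  intro n
  induction n using Nat.strong_induction_on with
  | _ n ih =>
    intro G _ _ _ hn hdvd
    classical
    have : Nontrivial G := by
      by_contra h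
      rw [not_nontrivial_iff_subsingleton] at h
      have h1 : (Cfsg.fittingSubgroup G).index = 1 :=
        Subgroup.index_eq_one.2 (Subsingleton.elim _ _)
      rw [h1] at hdvd
      exact hp.out.ne_one (Nat.dvd_one.1 hdvd)
    obtain ⟨r, V, hr, hVn, hV1, hVc, hVe⟩ := exists_normal_exponent_prime G
    haveI := hVn
    haveI := Fact.mk hr
    let π := QuotientGroup.mk' V
    have hπ : Function.Surjective π := QuotientGroup.mk'_surjective V
    haveI : Group.IsSolvable (G ⧸ V) := Group.isSolvable_of_surjective hπ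
    by_cases hquot : p ∣ (Cfsg.fittingSubgroup (G ⧸ V)).index
    · have hlt : Nat.card (G ⧸ V) < n := by
        refine lt_of_lt_of_le ?_ hn
        rw [Subgroup.card_eq_card_quotient_mul_card_subgroup V]
        exact lt_mul_of_one_lt_right Nat.card_pos ((Subgroup.one_lt_card_iff_ne_bot V).2 hV1)
      exact (ih _ hlt (G ⧸ V) le_rfl hquot).trans
        (Nat.mul_le_mul_left c (card_conjClasses_le_of_surjective π hπ))
    -- the normal Sylow subgroup of the quotient
    let FQ := Cfsg.fittingSubgroup (G ⧸ V)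
    let S : Sylow p FQ := default
    have hSc : (S : Subgroup FQ).Characteristic := S.characteristic_of_normal inferInstance
    let S' : Subgroup (G ⧸ V) := (S : Subgroup FQ).map FQ.subtype
    have hS'n : S'.Normal := ConjAct.normal_of_characteristic_of_normal
    have hS'p : IsPGroup p S' := S.isPGroup'.map _
    have hS'idx : ¬ p ∣ S'.index := by
      rw [show S'.index = (S : Subgroup FQ).index * FQ.index from
        Subgroup.index_map_subtype _]
      intro h
      rcases hp.out.dvd_mul.1 h with h | h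
      · exact S.not_dvd_index h
      · exact hquot h
    let K := S'.comap π
    have hKn : K.Normal := hS'n.comap π
    have hKidx : K.index = S'.index := Subgroup.index_comap_of_surjective S' hπ
    have hnil : ∀ K0 : Subgroup G, K0.Normal → Group.IsNilpotent K0 → ¬ p ∣ K0.index → False := by
      intro K0 h1 h2 h3
      have hle : K0 ≤ Cfsg.fittingSubgroup G := le_sSup ⟨h1, h2⟩
      exact h3 (hdvd.trans (Subgroup.index_dvd_of_le hle))
    have hrp : r ≠ p := by
      rintro rfl
      have hVp : IsPGroup r V := fun a => ⟨1, Subtype.ext (by simpa using hVe a.1 a.2)⟩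
      have hKp : IsPGroup r K := hS'p.comap_of_ker_isPGroup π (by rwa [QuotientGroup.ker_mk'])
      exact hnil K hKn hKp.isNilpotent (hKidx ▸ hS'idx)
    letI : CommGroup V := { (inferInstance : Group V) with mul_comm := fun a b => Subtype.ext (hVc _ a.2 _ b.2) }
    haveI : Module (ZMod r) (Additive V) := AddCommGroup.zmodModule fun a => by
      apply Additive.toMul.injective
      rw [toMul_nsmul, toMul_zero]
      exact Subtype.ext (by simpa using hVe _ (Additive.toMul a).2)
    let ρ : Representation (ZMod r) G (Additive V) :=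
      { toFun := fun g => (MonoidHom.toAdditive (MulAut.conjNormal g : MulAut V).toMonoidHom).toZModLinearMap r
        map_one' := LinearMap.ext fun v => by
          apply Additive.toMul.injective
          show MulAut.conjNormal (1 : G) (Additive.toMul v) = Additive.toMul v
          rw [map_one, MulAut.one_apply]
        map_mul' := fun a b => LinearMap.ext fun v => by
          apply Additive.toMul.injective
          show MulAut.conjNormal (a * b) (Additive.toMul v)
            = MulAut.conjNormal a (MulAut.conjNormal b (Additive.toMul v))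
          rw [map_mul, MulAut.mul_apply] }
    have hρ : ∀ g, ρ g = 1 ↔ ∀ v ∈ V, g * v * g⁻¹ = v := by
      intro g
      constructor
      · intro h v hv
        have h' := congrArg (fun T => ((Additive.toMul ((T : Module.End (ZMod r) (Additive V))
          (Additive.ofMul ⟨v, hv⟩)) : V) : G)) h
        simpa [ρ] using h'
      · intro h
        refine LinearMap.ext fun v => ?_
        apply Additive.toMul.injective
        exact Subtype.ext (h _ (Additive.toMul v).2)
    refine image_bound hrp ρ K hKn (fun x hx => ?_) ?_ ?_ ?_ hc hpc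
    · obtain ⟨j, hj⟩ := hS'p ⟨π x, hx⟩
      refine ⟨j, (hρ _).2 fun v hv => ?_⟩
      have hxV : x ^ p ^ j ∈ V := by
        rw [← QuotientGroup.eq_one_iff]
        simpa [π] using congrArg Subtype.val hj
      rw [hVc _ hxV v hv, mul_inv_cancel_right]
    · exact (Nat.Coprime.symm ((Nat.Prime.coprime_iff_not_dvd hp.out).2 (hKidx ▸ hS'idx)))
    · by_contra hcon
      push Not at hcon
      let fK : K →* S' := (π.comp K.subtype).codRestrict S' fun x => x.2
      have hfk : fK.ker ≤ center K := by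
        intro x hx
        refine mem_center_iff.2 fun y => Subtype.ext ?_
        have hxV : (x : G) ∈ V := (QuotientGroup.eq_one_iff _).1 (congrArg Subtype.val hx)
        have h := (hρ y).1 (hcon y y.2) x hxV
        calc (y : G) * x = (y : G) * x * (y : G)⁻¹ * y := by group
          _ = x * y := by rw [h]
      have := hS'p.isNilpotent
      exact hnil K hKn (Subgroup.isNilpotent_of_ker_le_center fK hfk) (hKidx ▸ hS'idx)
    · let emb : Quotient (orbSetoid ρ) → ConjClasses G :=
        Quotient.lift (fun v => ConjClasses.mk ((Additive.toMul v : V) : G)) (fun v w hvw => by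
          obtain ⟨g, hg⟩ := hvw
          refine ConjClasses.mk_eq_mk_iff_isConj.2 (isConj_iff.2 ⟨g, ?_⟩)
          rw [← hg]
          rfl)
      refine Nat.card_le_card_of_injective emb ?_
      intro a b
      induction a, b using Quotient.inductionOn₂ with
      | h v w =>
        intro hvw
        obtain ⟨g, hg⟩ := isConj_iff.1 (ConjClasses.mk_eq_mk_iff_isConj.1 hvw)
        refine Quotient.sound (s := orbSetoid ρ) ⟨g, ?_⟩
        apply Additive.toMul.injective
        exact Subtype.ext hg

/-- **Lower bound for the class number.** -/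
theorem class_bound {G : Type u} [Group G] [Finite G] [Group.IsSolvable G] {p : ℕ} [Fact p.Prime]
    (hp : p ∣ (Cfsg.fittingSubgroup G).index) {c : ℕ} (hc : 2 * c < p) (hpc : p ^ 3 < 2 ^ (c + 1)) :
    p ≤ c * Nat.card (ConjClasses G) :=
  class_bound_aux hc hpc _ G le_rfl hp

end Cfsg.Agent.ClassBound
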