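import Cfsg.Agent.Lib.ClassBound.Orbits
import Cfsg.Agent.Lib.PGroup.NormalElementary
import Cfsg.Agent.Lib.PGroup.ElementaryAbelian
import Cfsg.Agent.Lib.RankTwo.Basic
import Mathlib.LinearAlgebra.FiniteDimensional.Basic

/-!
# Orbits of groups with a non-abelian normal p-subgroup

`nonabelian_bound`: if a finite group acts linearly on a finite space of characteristic not `p ≥ 11`
and some normal p-subgroup has non-abelian image, there are at least `p` orbits on vectors.
-/

set_option autoImplicit false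
set_option linter.style.haveILetI false

namespace Cfsg.Agent.ClassBound

open Subgroup
open scoped commutatorElement

universe u

theorem card_bound_arith {p d : ℕ} (hp : 11 ≤ p) (hd : 1 ≤ d) : (2 * d + 1) ^ 2 + 2 ≤ p ^ d := by
  induction d, hd using Nat.le_induction with
  | base => simpa using hp
  | succ d hd ih =>
    calc (2 * (d + 1) + 1) ^ 2 + 2 ≤ 11 * ((2 * d + 1) ^ 2 + 2) := by nlinarith
      _ ≤ p * p ^ d := Nat.mul_le_mul hp ih
      _ = p ^ (d + 1) := (pow_succ' p d).symm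

section PGroupLemmas

variable {p : ℕ} [Fact p.Prime]

/-- A nonabelian p-group (p odd) with at most `p` central solutions of `x ^ p = 1` has a noncentral
element of order `p` in its second centre. -/
theorem exists_noncentral_omega {R : Type*} [Group R] [Finite R] (h2 : p ≠ 2) (hR : IsPGroup p R)
    (hnc : ∃ a b : R, a * b ≠ b * a) (hZ : Nat.card {x : R // x ∈ center R ∧ x ^ p = 1} ≤ p) :
    ∃ x : R, x ^ p = 1 ∧ x ∉ center R ∧ ∀ q : R, ⁅x, q⁆ ∈ center R := by
  obtain ⟨E0, hE0, hmax⟩ := (Set.toFinite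
    {F : Subgroup R | F.Normal ∧ IsElementaryAbelian p F}).exists_maximal
      ⟨⊥, inferInstance, PGroup.isElementaryAbelian_bot⟩
  have := hE0.1
  have hmax' : ∀ F : Subgroup R, F.Normal → IsElementaryAbelian p F → E0 ≤ F → F = E0 :=
    fun F h1 h2' h3 => le_antisymm (hmax ⟨h1, h2'⟩ h3) h3
  by_cases hc : E0 ≤ center R
  · exfalso
    have hall : ∀ y : R, y ^ p = 1 → y ∈ E0 := fun y hy =>
      PGroup.mem_of_centralizer_of_maximal_normal h2 hR hE0.2 hmax'
        (mem_centralizer_iff.2 fun e he => ((mem_center_iff.1 (hc he)) y).symm) hy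
    have hle : Nat.card {y : R // y ^ p = 1} ≤ p := by
      refine le_trans (Nat.card_le_card_of_injective (β := {x : R // x ∈ center R ∧ x ^ p = 1})
        (fun y => ⟨y.1, hc (hall y.1 y.2), y.2⟩)
        (fun a b h => Subtype.ext (congrArg Subtype.val h :))) hZ
    have := RankTwo.isCyclic_of_card_pow_le h2 hR hle
    obtain ⟨a, b, hab⟩ := hnc
    exact hab (IsCyclic.isMulCommutative.is_comm.comm a b)
  · let π := QuotientGroup.mk' (center R)
    have hFn : (E0.map π).Normal := hE0.1.map π (QuotientGroup.mk'_surjective _)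
    have hne : E0.map π ≠ ⊥ := by
      rw [Ne, Subgroup.map_eq_bot_iff, QuotientGroup.ker_mk']
      exact hc
    have hQ : IsPGroup p (R ⧸ center R) := hR.to_quotient _
    obtain ⟨⟨w, hw⟩, hw1⟩ := Subgroup.ne_bot_iff_exists_ne_one.1
      (PGroup.inf_center_ne_bot hQ (E0.map π) hne)
    obtain ⟨⟨x, hx, rfl⟩, hwc⟩ := hw
    refine ⟨x, hE0.2.2 x hx, fun hxc => hw1 (Subtype.ext ?_), fun q => ?_⟩
    · exact (QuotientGroup.eq_one_iff x).2 hxc
    · rw [← QuotientGroup.eq_one_iff]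
      show π ⁅x, q⁆ = 1
      rw [map_commutatorElement, commutatorElement_eq_one_iff_mul_comm]
      exact ((mem_center_iff.1 hwc) (π q)).symm

theorem exists_gens {R : Type*} [Group R] [Finite R] (hR : IsPGroup p R) :
    ∀ n : ℕ, ∀ Y : Subgroup R, Y.index ≤ n →
      ∃ S : Finset R, closure ((Y : Set R) ∪ (S : Set R)) = ⊤ ∧ p ^ S.card ≤ Y.index := by
  classical
  intro n
  induction n with
  | zero => exact fun Y h => absurd (Nat.le_zero.1 h) Subgroup.index_ne_zero_of_finite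
  | succ n ih =>
    intro Y hn
    by_cases hY : Y = ⊤
    · exact ⟨∅, by simp [hY], by simp [hY]⟩
    obtain ⟨x, -, hx⟩ := SetLike.exists_of_lt (lt_of_le_of_ne le_top hY : Y < ⊤)
    let Y' := Y ⊔ zpowers x
    have hlt : Y.relIndex Y' ≠ 1 := fun h =>
      hx ((Subgroup.relIndex_eq_one.1 h) ((le_sup_right : zpowers x ≤ Y') (mem_zpowers x)))
    obtain ⟨m, hm⟩ := (Nat.dvd_prime_pow (Fact.out : p.Prime)).1
      ((hR.to_subgroup Y').exists_card_eq.choose_spec ▸ Subgroup.relIndex_dvd_card Y Y')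
    have hp : p ≤ Y.relIndex Y' := by
      rw [hm.2] at hlt ⊢
      exact Nat.le_of_dvd (pow_pos (Fact.out : p.Prime).pos _)
        (dvd_pow_self p fun h => hlt (by rw [h, pow_zero]))
    have hidx : Y.relIndex Y' * Y'.index = Y.index := Subgroup.relIndex_mul_index le_sup_left
    have hsmall : Y'.index < Y.index := by
      have := (Fact.out : p.Prime).two_le
      have h0 : Y'.index ≠ 0 := Subgroup.index_ne_zero_of_finite
      have h1 : 2 * Y'.index ≤ Y.index := hidx ▸ Nat.mul_le_mul_right _ (this.trans hp)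
      omega
    obtain ⟨S, hS, hcard⟩ := ih Y' (by omega)
    refine ⟨insert x S, ?_, ?_⟩
    · rw [eq_top_iff, ← hS, closure_le]
      have hsub : Y' ≤ closure ((Y : Set R) ∪ ((insert x S : Finset R) : Set R)) :=
        sup_le (fun y hy => subset_closure (Or.inl hy))
          (zpowers_le.2 (subset_closure (Or.inr (by simp))))
      rintro y (hy | hy)
      · exact hsub hy
      · exact subset_closure (Or.inr (by simp [Finset.mem_coe.1 hy]))
    · calc p ^ (insert x S).card ≤ p ^ (S.card + 1) :=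
            Nat.pow_le_pow_right (Fact.out : p.Prime).pos (Finset.card_insert_le _ _)
        _ = p * p ^ S.card := pow_succ' p _
        _ ≤ Y.relIndex Y' * Y'.index := Nat.mul_le_mul hp hcard
        _ = Y.index := hidx

end PGroupLemmas

theorem avg_commute {k U N : Type*} [Field k] [AddCommGroup U] [Module k U] [Group N] [Finite N]
    (ρ : Representation k N U) (T : Module.End k U) (B : Subgroup N)
    (hT : ∀ b ∈ B, ∀ v, T (ρ b v) = ρ b (T v)) (v : U) : T (avg ρ B v) = avg ρ B (T v) := by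
  have := Fintype.ofFinite B
  rw [avg_apply, avg_apply, map_smul, map_sum]
  congr 1
  exact Finset.sum_congr rfl fun b _ => hT b.1 b.2 v

theorem sum_proj {k U N : Type*} [Field k] [AddCommGroup U] [Module k U] [Group N] [Finite N]
    (ρ : Representation k N U) {p : ℕ} [Fact p.Prime] {Y : Subgroup N} (hpk : (p : k) ≠ 0)
    (habel : ∀ a ∈ Y, ∀ b ∈ Y, a * b = b * a) (hexp : ∀ a ∈ Y, a ^ p = 1) (v : U) :
    ∃ B, IsHyp p Y B ∧ (proj ρ Y B v ≠ 0 ∨ v = 0) := by
  classical
  have hY : IsPGroup p Y := fun a => ⟨1, Subtype.ext (by simpa using hexp a.1 a.2)⟩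
  have := Fintype.ofFinite (Subgroup N)
  let s : Finset (Subgroup N) := Finset.univ.filter (IsHyp p Y)
  let W : Submodule k U :=
    LinearMap.eqLocus (∑ B ∈ s, proj ρ Y B) (LinearMap.id : U →ₗ[k] U)
  have hW : W = ⊤ := by
    refine eq_top_of_proj_mem ρ hpk habel hexp (W := W) ?_
    rintro B hB _ ⟨w, rfl⟩
    show (∑ B' ∈ s, proj ρ Y B') (proj ρ Y B w) = proj ρ Y B w
    rw [LinearMap.sum_apply, Finset.sum_eq_single B]
    · exact proj_idem ρ hY hpk hB w
    · intro B' hB' hne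
      exact proj_orth ρ hY hpk habel (Finset.mem_filter.1 hB').2 hB hne w
    · exact fun h => absurd (Finset.mem_filter.2 ⟨Finset.mem_univ _, hB⟩) h
  by_cases hv : v = 0
  · exact ⟨Y, Or.inl rfl, Or.inr hv⟩
  by_contra hcon
  push Not at hcon
  have h1 : (∑ B ∈ s, proj ρ Y B) v = v := (hW ▸ Submodule.mem_top : v ∈ W)
  rw [LinearMap.sum_apply, Finset.sum_eq_zero fun B hB => (hcon B (Finset.mem_filter.1 hB).2).1] at h1
  exact hv h1.symm

section Image

variable {k : Type*} [Field k] {U : Type*} [AddCommGroup U] [Module k U] {N : Type*} [Group N]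
variable (ρ : Representation k N U)

/-- The image of a representation as an abstract group. -/
abbrev imGroup : Subgroup (Module.End k U)ˣ := (MonoidHom.toHomUnits ρ).range

/-- The tautological representation of the image. -/
noncomputable def imRep : Representation k (imGroup ρ) U :=
  (Units.coeHom _).comp (imGroup ρ).subtype

theorem imRep_injective : Function.Injective (imRep ρ) :=
  Units.val_injective.comp Subtype.val_injective

@[simp]
theorem imRep_rangeRestrict (n : N) : imRep ρ ((MonoidHom.toHomUnits ρ).rangeRestrict n) = ρ n :=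
  rfl

theorem nOrb_imRep_le [Finite U] : nOrb (imRep ρ) ≤ nOrb ρ :=
  nOrb_le_of_orbits ρ (imRep ρ) fun n v => ⟨(MonoidHom.toHomUnits ρ).rangeRestrict n, rfl⟩

end Image

/-! ## The main argument -/

section Faithful

variable {k : Type*} [Field k] {p : ℕ} [hp : Fact p.Prime] {U : Type u} [AddCommGroup U]
  [Module k U] [Finite U] {N : Type u} [Group N] [Finite N] (ρ : Representation k N U)
  (hinj : Function.Injective ρ) (hpk : (p : k) ≠ 0) (hp11 : 11 ≤ p) (Q : Subgroup N)
  (hQn : Q.Normal) (hQp : IsPGroup p Q) (hnc : ∃ x ∈ Q, ∃ y ∈ Q, x * y ≠ y * x)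
  (hrec : ∀ W : Submodule k U, W ≠ ⊤ → Q ≤ stab ρ W →
    (∃ x ∈ Q, ∃ y ∈ Q, ∃ w ∈ W, ρ (x * y) w ≠ ρ (y * x) w) → p ≤ nOrb (restr ρ W))
  (hno : nOrb ρ < p)

include hinj hpk hQn hQp hnc hrec hno

/-- An elementary abelian normal subgroup inside `Q` has order at most `p` and no fixed points. -/
theorem reduce_normal {Y : Subgroup N} (hYn : Y.Normal) (hYQ : Y ≤ Q)
    (habel : ∀ a ∈ Y, ∀ b ∈ Y, a * b = b * a) (hexp : ∀ a ∈ Y, a ^ p = 1) :
    Nat.card Y ≤ p ∧ (Y ≠ ⊥ → ∀ v : U, (∀ y ∈ Y, ρ y v = v) → v = 0) := by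
  classical
  have hY : IsPGroup p Y := hQp.to_le hYQ
  let F := hypBlocks ρ (Y := Y) hY hpk habel
  -- `Q` fixes every block
  have hfix : ∀ q ∈ Q, ∀ i, F.σ q i = i := by
    intro q hq i
    by_contra hne
    let S : Subgroup Q :=
      { carrier := {a | i.1.map (MulAut.conj (a : N)).toMonoidHom = i.1}
        one_mem' := by
          show i.1.map (MulAut.conj ((1 : Q) : N)).toMonoidHom = i.1
          ext; simp
        mul_mem' := fun {a b} ha hb => by
          show i.1.map (MulAut.conj ((a * b : Q) : N)).toMonoidHom = i.1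
          conv_rhs => rw [← ha, ← hb, Subgroup.map_map]
          congr 1
          ext w
          simp [mul_assoc]
        inv_mem' := fun {a} ha => by
          show i.1.map (MulAut.conj ((a⁻¹ : Q) : N)).toMonoidHom = i.1
          conv_lhs => rw [← ha, Subgroup.map_map]
          ext w
          simp [mul_assoc] }
    have hSne : S.index ≠ 1 := fun h => hne (Subtype.ext
      ((Subgroup.index_eq_one.1 h ▸ Subgroup.mem_top (⟨q, hq⟩ : Q)) :))
    obtain ⟨m, hm⟩ := hQp.exists_card_eq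
    obtain ⟨j, -, hj⟩ := (Nat.dvd_prime_pow hp.out).1 (hm ▸ S.index_dvd_card)
    have hpS : p ≤ S.index := by
      rw [hj] at hSne ⊢
      exact Nat.le_of_dvd (pow_pos hp.out.pos _) (dvd_pow_self p fun h => hSne (by rw [h, pow_zero]))
    have hinjg : Function.Injective fun a : Q ⧸ S => F.σ (a.out : N) i := by
      intro a b hab
      have h1 : i.1.map (MulAut.conj (a.out : N)).toMonoidHom
          = i.1.map (MulAut.conj (b.out : N)).toMonoidHom := congrArg Subtype.val hab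
      rw [← QuotientGroup.out_eq' a, ← QuotientGroup.out_eq' b, QuotientGroup.eq]
      show i.1.map (MulAut.conj ((a.out⁻¹ * b.out : Q) : N)).toMonoidHom = i.1
      have h2 := congrArg (Subgroup.map (MulAut.conj ((a.out⁻¹ : Q) : N)).toMonoidHom) h1
      rw [Subgroup.map_map, Subgroup.map_map] at h2
      have e1 : ((MulAut.conj ((a.out⁻¹ : Q) : N)).toMonoidHom.comp
          (MulAut.conj (a.out : N)).toMonoidHom) = MonoidHom.id N := by
        ext w; simp [mul_assoc]
      have e2 : ((MulAut.conj ((a.out⁻¹ : Q) : N)).toMonoidHom.comp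
          (MulAut.conj (b.out : N)).toMonoidHom)
          = (MulAut.conj ((a.out⁻¹ * b.out : Q) : N)).toMonoidHom := by
        ext w; simp [mul_assoc]
      rw [e1, e2, Subgroup.map_id] at h2
      exact h2.symm
    have h1 := Nat.card_le_card_of_injective _ hinjg
    rw [← Subgroup.index_eq_card] at h1
    exact absurd (hpS.trans (h1.trans F.card_le_nOrb)) (not_le.2 hno)
  -- some block sees that `Q` is not abelian
  obtain ⟨x, hx, y, hy, hxy⟩ := hnc
  obtain ⟨i, w, hw, hwne⟩ : ∃ i, ∃ w ∈ LinearMap.range (F.e i), ρ (x * y) w ≠ ρ (y * x) w := by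
    by_contra hcon
    push Not at hcon
    have htop : LinearMap.eqLocus (ρ (x * y)) (ρ (y * x)) = ⊤ := by
      refine eq_top_of_proj_mem ρ hpk habel hexp ?_
      intro B hB
      by_cases h0 : proj ρ Y B = 0
      · rw [h0, LinearMap.range_zero]; exact bot_le
      · exact fun v hv => hcon ⟨B, hB, h0⟩ v hv
    exact hxy (hinj (LinearMap.ext fun v =>
      (htop ▸ Submodule.mem_top : v ∈ LinearMap.eqLocus (ρ (x * y)) (ρ (y * x)))))
  -- this block is the whole space
  have htop : LinearMap.range (F.e i) = ⊤ := by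
    by_contra hne
    exact absurd ((hrec _ hne (fun q hq => F.mem_stab_of_σ_eq (hfix q hq i))
      ⟨x, hx, y, hy, w, hw, hwne⟩).trans (F.nOrb_restr_le i)) (not_le.2 hno)
  have hid : ∀ v : U, proj ρ Y i.1 v = v := fun v => F.apply_of_mem_range (by rw [htop]; trivial)
  have hbot : i.1 = ⊥ := (Subgroup.eq_bot_iff_forall _).2 fun b hb => hinj (LinearMap.ext fun v => by
    rw [rho_one_apply, ← hid v, rho_proj ρ i.2.1.le hb])
  rcases i.2.1 with h | ⟨-, h⟩
  · rw [← h, hbot]
    exact ⟨by rw [Subgroup.card_bot]; exact hp.out.one_le, fun h' => absurd rfl h'⟩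
  · rw [hbot, Subgroup.card_bot, one_mul] at h
    refine ⟨h.ge, fun _ v hv => ?_⟩
    have hne : (⊥ : Subgroup N) ≠ Y := fun e => by
      rw [← e, Subgroup.card_bot] at h
      exact hp.out.ne_one h
    have h1 := hid v
    rw [hbot, proj_of_ne ρ hne, LinearMap.sub_apply,
      avg_of_fixed ρ (by simp) (fun b hb => by rw [Subgroup.mem_bot.1 hb, rho_one_apply]),
      avg_of_fixed ρ (card_ne_zero_of_le hY hpk le_rfl) hv, sub_self] at h1
    exact h1.symm

omit hrec hno in
/-- `Q` has a central element of order `p`; if there is only one such subgroup the exponent-p part of the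
second centre is nonabelian. -/
theorem exists_special (h2 : p ≠ 2)
    (hsmall : ∀ Y : Subgroup N, Y.Normal → Y ≤ Q → (∀ a ∈ Y, ∀ b ∈ Y, a * b = b * a) →
      (∀ a ∈ Y, a ^ p = 1) → Nat.card Y ≤ p ∧ (Y ≠ ⊥ → ∀ v : U, (∀ y ∈ Y, ρ y v = v) → v = 0)) :
    ∃ (E : Subgroup N) (z : N), E.Normal ∧ E ≤ Q ∧ z ∈ E ∧ z ^ p = 1 ∧ z ≠ 1 ∧
      (∀ e ∈ E, e ^ p = 1) ∧ (∃ a ∈ E, ∃ b ∈ E, a * b ≠ b * a) ∧ (∀ e ∈ E, e * z = z * e) ∧
      (∀ a ∈ E, ∀ b ∈ E, ⁅a, b⁆ ∈ zpowers z) ∧
      (∀ c ∈ E, (∀ e ∈ E, e * c = c * e) → c ∈ zpowers z) ∧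
      (∀ v : U, ρ z v = v → v = 0) := by
  classical
  let C := centralizer (Q : Set N)
  have hCn : ∀ c ∈ C, ∀ g : N, g * c * g⁻¹ ∈ C := by
    intro c hc g
    refine mem_centralizer_iff.2 fun q hq => ?_
    have h := mem_centralizer_iff.1 hc (g⁻¹ * q * g) (by simpa using hQn.conj_mem q hq g⁻¹)
    calc q * (g * c * g⁻¹) = g * ((g⁻¹ * q * g) * c) * g⁻¹ := by group
      _ = g * (c * (g⁻¹ * q * g)) * g⁻¹ := by rw [h]
      _ = g * c * g⁻¹ * q := by group
  have hcomm : ∀ c ∈ C, ∀ q ∈ Q, q * c = c * q := fun c hc q hq => mem_centralizer_iff.1 hc q hq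
  -- the central elements of order `p`
  let Y1 : Subgroup N :=
    { carrier := {x | x ∈ Q ∧ x ∈ C ∧ x ^ p = 1}
      one_mem' := ⟨Q.one_mem, C.one_mem, one_pow p⟩
      mul_mem' := fun {a b} ha hb => ⟨Q.mul_mem ha.1 hb.1, C.mul_mem ha.2.1 hb.2.1, by
        rw [(show Commute a b from hcomm b hb.2.1 a ha.1).mul_pow, ha.2.2, hb.2.2, one_mul]⟩
      inv_mem' := fun {a} ha => ⟨Q.inv_mem ha.1, C.inv_mem ha.2.1, by rw [inv_pow, ha.2.2, inv_one]⟩ }
  have hY1n : Y1.Normal := ⟨fun a ha g => ⟨hQn.conj_mem a ha.1 g, hCn a ha.2.1 g, by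
    rw [conj_pow, ha.2.2, mul_one, mul_inv_cancel]⟩⟩
  obtain ⟨hY1c, hY1f⟩ := hsmall Y1 hY1n (fun a ha => ha.1)
    (fun a ha b hb => hcomm b hb.2.1 a ha.1) (fun a ha => ha.2.2)
  obtain ⟨z, hz1, hzQ, hzC, hzp⟩ : ∃ z, z ≠ 1 ∧ z ∈ Q ∧ z ∈ C ∧ z ^ p = 1 := by
    obtain ⟨a, ha, b, hb, hab⟩ := hnc
    have : Nontrivial Q :=
      ⟨⟨⟨a, ha⟩, 1, fun e => hab (by rw [show a = 1 from congrArg Subtype.val e]; simp)⟩⟩
    have := hQp.center_nontrivial
    obtain ⟨n, hn0, hn⟩ := (hQp.to_subgroup (center Q)).nontrivial_iff_card.1 this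
    obtain ⟨c, hc⟩ := exists_prime_orderOf_dvd_card' (G := center Q) p (hn ▸ dvd_pow_self p hn0.ne')
    have hcp : (c : Q) ^ p = 1 := by rw [← hc, ← SubgroupClass.coe_pow, pow_orderOf_eq_one]; rfl
    refine ⟨((c : Q) : N), fun e => ?_, (c : Q).2, mem_centralizer_iff.2 fun q hq => ?_, ?_⟩
    · have : c = 1 := Subtype.ext (Subtype.ext e)
      rw [this, orderOf_one] at hc
      exact hp.out.ne_one hc.symm
    · exact congrArg Subtype.val (mem_center_iff.1 c.2 ⟨q, hq⟩)
    · exact_mod_cast congrArg Subtype.val hcp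
  have hzord : orderOf z = p := (orderOf_eq_prime hzp hz1)
  have hY1z : Y1 = zpowers z := by
    refine (Subgroup.eq_of_le_of_card_ge (zpowers_le.2 (show z ∈ Y1 from ⟨hzQ, hzC, hzp⟩)) ?_).symm
    rw [Nat.card_zpowers, hzord]
    exact hY1c
  have hzfpf : ∀ v : U, ρ z v = v → v = 0 := fun v hv =>
    hY1f (fun e => hz1 (Subgroup.mem_bot.1 (e ▸ ⟨hzQ, hzC, hzp⟩ : z ∈ (⊥ : Subgroup N)))) v
      fun y hy => (zpowers_le.2 hv : zpowers z ≤ fixer ρ v) (hY1z ▸ hy)
  -- the second centre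
  let Z2 : Subgroup N :=
    { carrier := {x | x ∈ Q ∧ ∀ q ∈ Q, ⁅x, q⁆ ∈ C}
      one_mem' := ⟨Q.one_mem, fun q _ => by rw [commutatorElement_one_left]; exact C.one_mem⟩
      mul_mem' := fun {a b} ha hb => ⟨Q.mul_mem ha.1 hb.1, fun q hq => by
        have e : ⁅a * b, q⁆ = a * ⁅b, q⁆ * a⁻¹ * ⁅a, q⁆ := by
          simp only [commutatorElement_def]; group
        rw [e, hcomm _ (hb.2 q hq) a ha.1, mul_inv_cancel_right]
        exact C.mul_mem (hb.2 q hq) (ha.2 q hq)⟩
      inv_mem' := fun {a} ha => ⟨Q.inv_mem ha.1, fun q hq => by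
        have e : ⁅a⁻¹, q⁆ = a⁻¹ * ⁅a, q⁆⁻¹ * a := by simp only [commutatorElement_def]; group
        rw [e, hcomm _ (C.inv_mem (ha.2 q hq)) _ (Q.inv_mem ha.1), inv_mul_cancel_right]
        exact C.inv_mem (ha.2 q hq)⟩ }
  have hZ2n : ∀ a ∈ Z2, ∀ g : N, g * a * g⁻¹ ∈ Z2 := fun a ha g => ⟨hQn.conj_mem a ha.1 g,
    fun q hq => by
      have e : ⁅g * a * g⁻¹, q⁆ = g * ⁅a, g⁻¹ * q * g⁆ * g⁻¹ := by
        simp only [commutatorElement_def]; group
      rw [e]
      exact hCn _ (ha.2 _ (by simpa using hQn.conj_mem q hq g⁻¹)) g⟩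
  let Gen : Set N := {x | x ∈ Z2 ∧ x ^ p = 1}
  let E := closure Gen
  have hEZ : E ≤ Z2 := (closure_le _).2 fun a ha => ha.1
  have hEQ : E ≤ Q := fun a ha => (hEZ ha).1
  have hEn : E.Normal := ⟨fun a ha g => by
    induction ha using closure_induction with
    | mem b hb => exact subset_closure ⟨hZ2n b hb.1 g, by rw [conj_pow, hb.2, mul_one, mul_inv_cancel]⟩
    | one => simp
    | mul b c _ _ hb hc =>
      have e : g * (b * c) * g⁻¹ = g * b * g⁻¹ * (g * c * g⁻¹) := by group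
      rw [e]; exact E.mul_mem hb hc
    | inv b _ hb => have e : g * b⁻¹ * g⁻¹ = (g * b * g⁻¹)⁻¹ := by group
                    rw [e]; exact E.inv_mem hb⟩
  have hEexp : ∀ e ∈ E, e ^ p = 1 := by
    intro e he
    have hcl : _root_.commutator Z2 ≤ center Z2 := by
      rw [_root_.commutator_eq_closure, closure_le]
      rintro _ ⟨a, b, rfl⟩
      refine mem_center_iff.2 fun c => Subtype.ext ?_
      exact hcomm _ (by simpa [commutatorElement_def] using a.2.2 b b.2.1) c c.2.1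
    let s : Set Z2 := {a | (a : N) ^ p = 1}
    have hmap : (closure s).map Z2.subtype = E := by
      rw [MonoidHom.map_closure]
      congr 1
      ext a
      constructor
      · rintro ⟨b, hb, rfl⟩; exact ⟨b.2, hb⟩
      · exact fun ha => ⟨⟨a, ha.1⟩, ha.2, rfl⟩
    obtain ⟨e', he', rfl⟩ := hmap.symm ▸ he
    exact congrArg Subtype.val
      (PGroup.pow_eq_one_of_mem_closure hp.out h2 hcl (fun a ha => Subtype.ext (by simpa [s] using ha)) he')
  have hzE : z ∈ E := subset_closure ⟨⟨hzQ, fun q hq => by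
    rw [commutatorElement_eq_one_iff_mul_comm.2 (hcomm z hzC q hq).symm]; exact C.one_mem⟩, hzp⟩
  have hEz : ∀ e ∈ E, e * z = z * e := fun e he => hcomm z hzC e (hEQ he)
  have hEnc : ∃ a ∈ E, ∃ b ∈ E, a * b ≠ b * a := by
    by_contra hcon
    push Not at hcon
    have hc := (hsmall E hEn hEQ hcon hEexp).1
    have hEz' : E = zpowers z := (Subgroup.eq_of_le_of_card_ge (zpowers_le.2 hzE)
      (by rw [Nat.card_zpowers, hzord]; exact hc)).symm
    obtain ⟨x, hxp, hxc, hxq⟩ := exists_noncentral_omega (R := Q) h2 hQp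
      (by obtain ⟨a, ha, b, hb, hab⟩ := hnc
          exact ⟨⟨a, ha⟩, ⟨b, hb⟩, fun e => hab (congrArg Subtype.val e)⟩)
      (by
        refine le_trans (Nat.card_le_card_of_injective
          (fun x : {x : Q // x ∈ center Q ∧ x ^ p = 1} => (⟨(x.1 : N), x.1.2,
            mem_centralizer_iff.2 fun q hq => congrArg Subtype.val (mem_center_iff.1 x.2.1 ⟨q, hq⟩),
            by simpa using congrArg Subtype.val x.2.2⟩ : Y1)) ?_) hY1c
        exact fun a b h => Subtype.ext (Subtype.ext (congrArg Subtype.val h :)))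
    refine hxc (mem_center_iff.2 fun q => Subtype.ext ?_)
    have hxE : (x : N) ∈ E := subset_closure ⟨⟨x.2, fun q hq => mem_centralizer_iff.2 fun r hr => by
      have h := congrArg Subtype.val (mem_center_iff.1 (hxq ⟨q, hq⟩) ⟨r, hr⟩)
      simpa [commutatorElement_def] using h⟩, by simpa using congrArg Subtype.val hxp⟩
    rw [hEz'] at hxE
    exact hcomm _ ((zpowers_le.2 hzC) hxE) q q.2
  refine ⟨E, z, hEn, hEQ, hzE, hzp, hz1, hEexp, hEnc, hEz, ?_, ?_, hzfpf⟩
  · intro a ha b hb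
    rw [← hY1z]
    exact ⟨hEQ (by rw [commutatorElement_def]; exact E.mul_mem (E.mul_mem (E.mul_mem ha hb)
      (E.inv_mem ha)) (E.inv_mem hb)), (hEZ ha).2 b (hEQ hb), hEexp _ (by
        rw [commutatorElement_def]; exact E.mul_mem (E.mul_mem (E.mul_mem ha hb)
          (E.inv_mem ha)) (E.inv_mem hb))⟩
  · intro c hc hcE
    let D : Subgroup N := E ⊓ centralizer (E : Set N)
    have hDn : D.Normal := ⟨fun a ha g => ⟨hEn.conj_mem a ha.1 g, mem_centralizer_iff.2 fun e he => by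
      have h := mem_centralizer_iff.1 ha.2 (g⁻¹ * e * g) (by simpa using hEn.conj_mem e he g⁻¹)
      calc e * (g * a * g⁻¹) = g * ((g⁻¹ * e * g) * a) * g⁻¹ := by group
        _ = g * (a * (g⁻¹ * e * g)) * g⁻¹ := by rw [h]
        _ = g * a * g⁻¹ * e := by group⟩⟩
    have hDc := (hsmall D hDn (fun a ha => hEQ ha.1)
      (fun a ha b hb => mem_centralizer_iff.1 hb.2 a ha.1) (fun a ha => hEexp a ha.1)).1
    have hzD : z ∈ D := ⟨hzE, mem_centralizer_iff.2 fun e he => hEz e he⟩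
    rw [Subgroup.eq_of_le_of_card_ge (zpowers_le.2 hzD : zpowers z ≤ D)
      (by rw [Nat.card_zpowers, hzord]; exact hDc)]
    exact ⟨hc, mem_centralizer_iff.2 fun e he => hcE e he⟩

omit hrec hno hQn hQp hnc hinj in
/-- Counting orbits on a minimal invariant subspace of a normal extraspecial type subgroup. -/
theorem special_bound (hp11 : 11 ≤ p) (E : Subgroup N) (hEn : E.Normal) (hU : ∃ v : U, v ≠ 0)
    (z : E) (hzp : z ^ p = 1) (hexp : ∀ e : E, e ^ p = 1) (hnab : ∃ a b : E, a * b ≠ b * a)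
    (hzc : ∀ e : E, e * z = z * e) (hcom : ∀ a b : E, ⁅a, b⁆ ∈ zpowers z)
    (hcen : ∀ c : E, (∀ e, e * c = c * e) → c ∈ zpowers z)
    (hfpf : ∀ v : U, ρ z v = v → v = 0) : p ≤ nOrb ρ := by
  classical
  have hEp : IsPGroup p E := fun e => ⟨1, by simpa using hexp e⟩
  have hz1 : z ≠ 1 := fun h => by
    obtain ⟨v, hv⟩ := hU
    exact hv (hfpf v (by rw [h, OneMemClass.coe_one, rho_one_apply]))
  have hzord : orderOf z = p := orderOf_eq_prime hzp hz1
  -- a maximal abelian subgroup of `E`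
  obtain ⟨Y, hYmem, hYmax⟩ := (Set.toFinite
    {A : Subgroup E | z ∈ A ∧ ∀ a ∈ A, ∀ b ∈ A, a * b = b * a}).exists_maximal
      ⟨zpowers z, mem_zpowers z, fun a ha b hb => by
        obtain ⟨i, rfl⟩ := ha; obtain ⟨j, rfl⟩ := hb
        exact ((Commute.refl z).zpow_zpow i j).eq⟩
  obtain ⟨hzY, hYab⟩ := hYmem
  have hYself : ∀ x : E, (∀ y ∈ Y, y * x = x * y) → x ∈ Y := by
    intro x hx
    have h1 : Y ⊔ zpowers x ≤ centralizer ((Y : Set E) ∪ {x}) := by
      refine sup_le (fun y hy => mem_centralizer_iff.2 ?_) (zpowers_le.2 (mem_centralizer_iff.2 ?_))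
      · rintro w (hw | rfl)
        · exact hYab w hw y hy
        · exact (hx y hy).symm
      · rintro w (hw | rfl)
        · exact hx w hw
        · rfl
    refine (hYmax (y := Y ⊔ zpowers x) ⟨(le_sup_left : Y ≤ _) hzY, fun a ha b hb => ?_⟩ le_sup_left)
      ((le_sup_right : zpowers x ≤ _) (mem_zpowers x))
    have h2 : Y ⊔ zpowers x ≤ centralizer {a} := sup_le
      (fun y hy => mem_centralizer_singleton_iff.2 (mem_centralizer_iff.1 (h1 ha) y (Or.inl hy)))
      (zpowers_le.2 (mem_centralizer_singleton_iff.2 (mem_centralizer_iff.1 (h1 ha) x (Or.inr rfl))))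
    exact (mem_centralizer_singleton_iff.1 (h2 hb)).symm
  have hYn : Y.Normal := ⟨fun y hy g => by
    have e : g * y * g⁻¹ = ⁅g, y⁆ * y := by rw [commutatorElement_def]; group
    rw [e]
    exact Y.mul_mem ((zpowers_le.2 hzY) (hcom g y)) hy⟩
  have hYp : IsPGroup p Y := hEp.to_subgroup Y
  have hYexp : ∀ a ∈ Y, a ^ p = 1 := fun a _ => hexp a
  -- a minimal invariant subspace
  let ρE : Representation k E U := ρ.comp E.subtype
  obtain ⟨U0, hU0mem, hU0min⟩ := (Set.toFinite
    {W : Submodule k U | W ≠ ⊥ ∧ ∀ (e : E), ∀ w ∈ W, ρE e w ∈ W}).exists_minimal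
      ⟨⊤, by
        obtain ⟨v, hv⟩ := hU
        exact fun h => hv ((Submodule.mem_bot k).1 (h ▸ Submodule.mem_top)), fun _ _ _ => trivial⟩
  obtain ⟨hU0ne, hU0inv⟩ := hU0mem
  have hmin : ∀ W : Submodule k U, (∀ e : E, ∀ w ∈ W, ρE e w ∈ W) →
      (∃ w ∈ W, w ∈ U0 ∧ w ≠ 0) → U0 ≤ W := by
    intro W hW hex
    obtain ⟨w, hw, hw0, hwne⟩ := hex
    have hne : U0 ⊓ W ≠ ⊥ := fun h => hwne ((Submodule.mem_bot k).1 (h ▸ ⟨hw0, hw⟩))
    exact (hU0min (y := U0 ⊓ W) ⟨hne, fun e w hw => ⟨hU0inv e w hw.1, hW e w hw.2⟩⟩ inf_le_left).trans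
      inf_le_right
  -- a hyperplane
  obtain ⟨u0, hu0, hu0ne⟩ := U0.ne_bot_iff.1 hU0ne
  obtain ⟨B, hB, hBv⟩ := sum_proj ρE hpk hYab hYexp u0
  have hBv' : proj ρE Y B u0 ≠ 0 := hBv.resolve_right hu0ne
  have hBne : B ≠ Y := fun h => by
    subst h
    refine hBv' (hfpf _ ?_)
    rw [proj_self]
    exact rho_avg ρE hzY u0
  obtain ⟨hBY, hBc⟩ := hB.resolve_left hBne
  have hzB : z ∉ B := fun h => hBv' (hfpf _ (rho_proj ρE hBY h u0))
  have hBz : ∀ w ∈ B, w ∈ zpowers z → w = 1 := by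
    intro w hw hwz
    by_contra hne
    obtain ⟨i, rfl⟩ := hwz
    have hcard : Nat.card (zpowers z) = p := by rw [Nat.card_zpowers, hzord]
    haveI := Fact.mk hp.out
    have htop := zpowers_eq_top_of_prime_card hcard (g := ⟨z ^ i, i, rfl⟩)
      (fun h => hne (congrArg Subtype.val h))
    obtain ⟨j, hj⟩ := (htop ▸ Subgroup.mem_top (⟨z, mem_zpowers z⟩ : zpowers z) :)
    have hj' : (z ^ i) ^ j = z := congrArg Subtype.val hj
    exact hzB (hj' ▸ B.zpow_mem hw j)
  have hBsup : B ⊔ zpowers z = Y := by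
    have hle : B ⊔ zpowers z ≤ Y := sup_le hBY (zpowers_le.2 hzY)
    obtain ⟨c, hc⟩ := Subgroup.card_dvd_of_le (le_sup_left : B ≤ B ⊔ zpowers z)
    have hd : c ∣ p := by
      have h := Subgroup.card_dvd_of_le hle
      rw [hc, ← hBc] at h
      exact Nat.dvd_of_mul_dvd_mul_left Nat.card_pos h
    rcases (Nat.dvd_prime hp.out).1 hd with rfl | rfl
    · exfalso
      rw [mul_one] at hc
      exact hzB ((Subgroup.eq_of_le_of_card_ge (le_sup_left : B ≤ B ⊔ zpowers z) hc.le).symm ▸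
        (le_sup_right : zpowers z ≤ _) (mem_zpowers z))
    · exact Subgroup.eq_of_le_of_card_ge hle (by rw [hc, hBc])
  let F := hypBlocks ρE (Y := Y) hYp hpk hYab
  let i0 : {B : Subgroup E // IsHyp p Y B ∧ proj ρE Y B ≠ 0} :=
    ⟨B, hB, fun h => hBv' (by rw [h, LinearMap.zero_apply])⟩
  let C : Submodule k U := U0 ⊓ LinearMap.range (proj ρE Y B)
  have hproj0 : ∀ u ∈ U0, proj ρE Y B u ∈ U0 := by
    intro u hu
    have havg : ∀ D : Subgroup E, avg ρE D u ∈ U0 := fun D => by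
      have := Fintype.ofFinite D
      rw [avg_apply]
      exact U0.smul_mem _ (U0.sum_mem fun b _ => hU0inv b u hu)
    rw [proj_of_ne ρE hBne, LinearMap.sub_apply]
    exact U0.sub_mem (havg _) (havg _)
  let v := proj ρE Y B u0
  have hvC : v ∈ C := ⟨hproj0 u0 hu0, u0, rfl⟩
  have hpC : p ≤ Nat.card C := by
    have hpw : ∀ j : Fin p, ρE (z ^ j.1) v ∈ C := fun j =>
      ⟨hU0inv _ v hvC.1, ρE (z ^ j.1) u0, (proj_comm ρE hYab hBY (Y.pow_mem hzY _) u0).symm⟩
    refine le_of_eq_of_le (Nat.card_fin p).symm (Nat.card_le_card_of_injective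
      (fun j : Fin p => (⟨_, hpw j⟩ : C)) ?_)
    intro i j hij
    by_contra hne
    have hij' : ρE (z ^ i.1) v = ρE (z ^ j.1) v := congrArg Subtype.val hij
    have hfix : (z ^ i.1)⁻¹ * z ^ j.1 ∈ fixer ρE v := by
      rw [mem_fixer, rho_mul_apply, ← hij', rho_inv_apply]
    have hne1 : (z ^ i.1)⁻¹ * z ^ j.1 ≠ 1 := by
      rw [Ne, inv_mul_eq_one, pow_inj_mod, hzord, Nat.mod_eq_of_lt i.2, Nat.mod_eq_of_lt j.2]
      exact fun h => hne (Fin.ext h)
    have hcard : Nat.card (zpowers z) = p := by rw [Nat.card_zpowers, hzord]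
    have hmem : (z ^ i.1)⁻¹ * z ^ j.1 ∈ zpowers z :=
      mul_mem (inv_mem (pow_mem (mem_zpowers z) _)) (pow_mem (mem_zpowers z) _)
    obtain ⟨m, hm⟩ := (zpowers_eq_top_of_prime_card hcard
      (g := ⟨_, hmem⟩) (fun h => hne1 (congrArg Subtype.val h)) ▸
        Subgroup.mem_top (⟨z, mem_zpowers z⟩ : zpowers z) :)
    have hm' : ((z ^ i.1)⁻¹ * z ^ j.1) ^ m = z := congrArg Subtype.val hm
    have hzfix : z ∈ fixer ρE v := hm' ▸ zpow_mem hfix m
    exact hBv' (hfpf v hzfix)
  -- independent translates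
  let T := E ⧸ Y
  have := Fintype.ofFinite T
  have hσinj : Function.Injective fun t : T => F.σ t.out i0 := by
    intro a b hab
    rw [← QuotientGroup.out_eq' a, ← QuotientGroup.out_eq' b, QuotientGroup.eq]
    set c := a.out⁻¹ * b.out with hc
    have h1 : B.map (MulAut.conj a.out).toMonoidHom = B.map (MulAut.conj b.out).toMonoidHom :=
      congrArg Subtype.val hab
    have hcB : ∀ β ∈ B, c * β * c⁻¹ ∈ B := by
      intro β hβ
      have h2 : b.out * β * b.out⁻¹ ∈ B.map (MulAut.conj a.out).toMonoidHom := h1 ▸ ⟨β, hβ, rfl⟩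
      obtain ⟨γ, hγ, hγe⟩ := h2
      simp only [MulEquiv.coe_toMonoidHom, MulAut.conj_apply] at hγe
      have e : c * β * c⁻¹ = a.out⁻¹ * (b.out * β * b.out⁻¹) * a.out := by rw [hc]; group
      rw [e, ← hγe]
      simpa [mul_assoc] using hγ
    refine hYself c ?_
    have hle : Y ≤ centralizer {c} := by
      rw [← hBsup]
      refine sup_le (fun β hβ => mem_centralizer_singleton_iff.2 ?_)
        (zpowers_le.2 (mem_centralizer_singleton_iff.2 (hzc c).symm))
      have h3 : ⁅c, β⁆ = 1 := hBz _ (by rw [commutatorElement_def]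
                                        exact B.mul_mem (hcB β hβ) (B.inv_mem hβ)) (hcom c β)
      exact (commutatorElement_eq_one_iff_mul_comm.1 h3).symm
    exact fun y hy => mem_centralizer_singleton_iff.1 (hle hy)
  have hU0card : Nat.card C ^ Y.index ≤ Nat.card U0 := by
    rw [Subgroup.index_eq_card, ← Nat.card_fun]
    refine Nat.card_le_card_of_injective
      (fun f : T → C => (⟨∑ t : T, ρE t.out (f t), U0.sum_mem fun t _ => hU0inv _ _ (f t).2.1⟩ : U0)) ?_
    intro f g hfg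
    have h : ∑ t : T, ρE t.out (f t : U) = ∑ t : T, ρE t.out (g t : U) := congrArg Subtype.val hfg
    have key : ∀ (f : T → C) s, F.e (F.σ s.out i0) (∑ t : T, ρE t.out (f t : U))
        = ρE s.out (f s) := by
      intro f s
      rw [map_sum, Finset.sum_eq_single s]
      · exact F.apply_of_mem_range (F.map_mem_range _ (f s).2.2)
      · intro t _ hts
        rw [← F.apply_of_mem_range (F.map_mem_range _ (i := i0) (f t).2.2)]
        exact F.orth _ _ _ fun e => hts (hσinj e).symm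
      · exact fun hn => absurd (Finset.mem_univ s) hn
    funext s
    have h1 := key f s
    rw [h, key g s] at h1
    exact Subtype.ext (rho_injective ρE _ h1).symm
  -- the stabiliser of the subspace
  have htrick : ∀ n w, w ∈ U0 → w ≠ 0 → ρ n w ∈ U0 → n ∈ stab ρ U0 := by
    intro n w hw hw0 hn
    have hinv : ∀ e : E, ∀ x ∈ U0.map (ρ n), ρE e x ∈ U0.map (ρ n) := by
      rintro e _ ⟨x, hx, rfl⟩
      refine ⟨ρE ⟨n⁻¹ * e * n, by simpa using hEn.conj_mem e.1 e.2 n⁻¹⟩ x, hU0inv _ x hx, ?_⟩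
      show ρ n (ρ (n⁻¹ * e * n) x) = ρ (e : N) (ρ n x)
      rw [← rho_mul_apply, ← rho_mul_apply]
      congr 2
      group
    have hle := hmin _ hinv ⟨ρ n w, ⟨w, hw, rfl⟩, hn,
      fun h => hw0 (rho_injective ρ n (h.trans (map_zero _).symm))⟩
    have heq : U0 = U0.map (ρ n) := Submodule.eq_of_le_of_finrank_eq hle
      (LinearEquiv.finrank_eq (Submodule.equivMapOfInjective _ (rho_injective ρ n) U0))
    exact fun x hx => heq ▸ ⟨x, hx, rfl⟩
  refine le_trans ?_ (nOrb_restr_le ρ U0 htrick)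
  -- generators
  obtain ⟨S, hS, hScard⟩ := exists_gens hEp _ Y le_rfl
  obtain ⟨G, hG, hGcard⟩ := exists_gens hEp _ (⊥ : Subgroup E) le_rfl
  obtain ⟨d, hd⟩ : ∃ d, Y.index = p ^ d := by
    obtain ⟨m, hm⟩ := hEp.exists_card_eq
    obtain ⟨j, -, hj⟩ := (Nat.dvd_prime_pow hp.out).1 (hm ▸ Y.index_dvd_card)
    exact ⟨j, hj⟩
  have hd1 : 1 ≤ d := by
    by_contra h0
    have : Y = ⊤ := Subgroup.index_eq_one.1 (by rw [hd]; simp [Nat.lt_one_iff.1 (not_le.1 h0)])
    obtain ⟨a, b, hab⟩ := hnab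
    exact hab (hYab a (this ▸ trivial) b (this ▸ trivial))
  have hBle : Nat.card B ≤ p ^ d := by
    have hSd : S.card ≤ d := (Nat.pow_le_pow_iff_right hp.out.one_lt).1 (hd ▸ hScard)
    refine le_trans ?_ (Nat.pow_le_pow_right hp.out.pos hSd)
    have hcard : Nat.card (S → zpowers z) = p ^ S.card := by
      rw [Nat.card_fun, Nat.card_zpowers, hzord, Nat.card_eq_fintype_card, Fintype.card_coe]
    rw [← hcard]
    refine Nat.card_le_card_of_injective (fun (b : B) (s : S) => ⟨⁅(s : E), (b : E)⁆, hcom _ _⟩) ?_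
    intro b b' hbb
    refine Subtype.ext (inv_mul_eq_one.1 (hBz _ (B.mul_mem (B.inv_mem b'.2) b.2) (hcen _ ?_))).symm
    have hall : closure ((Y : Set E) ∪ (S : Set E)) ≤ centralizer {(b' : E)⁻¹ * b} := by
      refine (closure_le _).2 ?_
      rintro x (hx | hx)
      · exact mem_centralizer_singleton_iff.2
          (hYab x hx _ (Y.mul_mem (Y.inv_mem (hBY b'.2)) (hBY b.2)))
      · refine mem_centralizer_singleton_iff.2 ?_
        have e : ⁅x, (b : E)⁆ = ⁅x, (b' : E)⁆ :=
          congrArg Subtype.val (congrFun hbb ⟨x, hx⟩)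
        rw [commutatorElement_def, commutatorElement_def] at e
        have hb' : ((b' : E))⁻¹ * b = (b : E) * (b' : E)⁻¹ :=
          hYab _ (Y.inv_mem (hBY b'.2)) _ (hBY b.2)
        have e2 : x * (b : E) * x⁻¹ * (b : E)⁻¹ * (b' : E) = x * (b' : E) * x⁻¹ := by
          rw [e, inv_mul_cancel_right]
        have e3 : x * ((b' : E)⁻¹ * b) * x⁻¹ = (b' : E)⁻¹ * b := by
          calc x * ((b' : E)⁻¹ * b) * x⁻¹
              = (x * (b' : E) * x⁻¹)⁻¹ * (x * (b : E) * x⁻¹) := by group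
            _ = (b' : E)⁻¹ * b := by rw [← e2]; group
        calc x * ((b' : E)⁻¹ * b) = x * ((b' : E)⁻¹ * b) * x⁻¹ * x := by group
          _ = (b' : E)⁻¹ * b * x := by rw [e3]
    intro e
    exact mem_centralizer_singleton_iff.1 (hall (hS ▸ Subgroup.mem_top e))
  have hEle : Nat.card E ≤ p ^ (2 * d + 1) := by
    rw [← Subgroup.card_mul_index Y, ← hBc, hd, pow_succ, two_mul, pow_add]
    nlinarith [hBle, pow_pos hp.out.pos d, hp.out.pos,
      Nat.mul_le_mul_right (p * p ^ d) hBle]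
  have hGle : G.card ≤ 2 * d + 1 := by
    refine (Nat.pow_le_pow_iff_right hp.out.one_lt).1 (hGcard.trans ?_)
    rw [Subgroup.index_bot]
    exact hEle
  -- orbit sizes
  set σ0 := restr ρ U0
  let α : stab ρ U0 → (G → E) := fun n g => ⟨n.1 * (g : E) * n.1⁻¹, hEn.conj_mem _ (g : E).2 _⟩
  let rep : (G → E) → stab ρ U0 := Function.invFun α
  have hrep : ∀ n, α (rep (α n)) = α n := fun n => Function.invFun_eq (f := α) ⟨n, rfl⟩
  have hcommE : ∀ n, ∀ e : E, ((rep (α n))⁻¹ * n : stab ρ U0).1 * e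
      = (e : N) * ((rep (α n))⁻¹ * n : stab ρ U0).1 := by
    intro n
    have hle : closure (((⊥ : Subgroup E) : Set E) ∪ (G : Set E))
        ≤ (centralizer {((rep (α n))⁻¹ * n : stab ρ U0).1}).comap E.subtype := by
      refine (closure_le _).2 ?_
      rintro x (hx | hx)
      · rw [Subgroup.coe_bot, Set.mem_singleton_iff] at hx
        subst hx
        exact one_mem _
      · refine mem_centralizer_singleton_iff.2 ?_
        have h := congrArg Subtype.val (congrFun (hrep n) ⟨x, hx⟩)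
        simp only [α] at h
        show (x : N) * ((rep (α n)).1⁻¹ * n.1) = ((rep (α n)).1⁻¹ * n.1) * (x : N)
        calc (x : N) * ((rep (α n)).1⁻¹ * n.1)
            = (rep (α n)).1⁻¹ * ((rep (α n)).1 * x * (rep (α n)).1⁻¹) * n.1 := by group
          _ = (rep (α n)).1⁻¹ * (n.1 * x * n.1⁻¹) * n.1 := by rw [h]
          _ = ((rep (α n)).1⁻¹ * n.1) * (x : N) := by group
    intro e
    exact (mem_centralizer_singleton_iff.1 (hle (hG ▸ Subgroup.mem_top e))).symm
  have hbound : ∀ w : U0, Nat.card {w' : U0 // ∃ n, σ0 n w = w'} ≤ Nat.card E ^ G.card * Nat.card C := by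
    intro w
    have hkeyC : ∀ n : stab ρ U0, ρ ((rep (α n))⁻¹ * n : stab ρ U0).1 v ∈ C := by
      intro n
      set h := (rep (α n))⁻¹ * n with hh
      have hT : ∀ e : E, ∀ x, ρ h.1 (ρE e x) = ρE e (ρ h.1 x) := fun e x => by
        show ρ h.1 (ρ (e : N) x) = ρ (e : N) (ρ h.1 x)
        rw [← rho_mul_apply, ← rho_mul_apply, hcommE n e]
      refine ⟨h.2 v hvC.1, ρ h.1 u0, ?_⟩
      show proj ρE Y B (ρ h.1 u0) = ρ h.1 (proj ρE Y B u0)
      rw [proj_of_ne ρE hBne, LinearMap.sub_apply, LinearMap.sub_apply, map_sub,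
        avg_commute ρE (ρ h.1) B (fun b _ => hT b), avg_commute ρE (ρ h.1) Y (fun b _ => hT b)]
    let key : {w' : U0 // ∃ n, σ0 n w = w'} → (G → E) × C := fun x =>
      (α x.2.choose, ⟨_, hkeyC x.2.choose⟩)
    refine le_trans (Nat.card_le_card_of_injective key ?_) ?_
    · intro x y hxy
      obtain ⟨h1, h2⟩ := Prod.ext_iff.1 hxy
      simp only [key] at h1 h2
      set n := x.2.choose with hn
      set n' := y.2.choose with hn'
      set r := rep (α n) with hr
      have hr' : rep (α n') = r := by rw [hr, h1]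
      have h3 : ρ (r⁻¹ * n).1 v = ρ (r⁻¹ * n').1 v := by
        have := congrArg Subtype.val h2
        simp only at this
        rwa [hr'] at this
      have hall : U0 ≤ LinearMap.eqLocus (ρ (r⁻¹ * n).1) (ρ (r⁻¹ * n').1) := by
        refine hmin _ (fun e x hx => ?_) ⟨v, h3, hvC.1, hBv'⟩
        show ρ (r⁻¹ * n).1 (ρ (e : N) x) = ρ (r⁻¹ * n').1 (ρ (e : N) x)
        have e1 := hcommE n e
        have e2 := hcommE n' e
        rw [hr'] at e2
        rw [← rho_mul_apply, ← rho_mul_apply, e1, e2, rho_mul_apply, rho_mul_apply]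
        exact congrArg (ρ (e : N)) hx
      have h4 : ρ (r⁻¹ * n).1 w = ρ (r⁻¹ * n').1 w := hall w.2
      have h5 : ρ n.1 (w : U) = ρ n'.1 w := by
        apply rho_injective ρ (r⁻¹).1
        rw [← rho_mul_apply, ← rho_mul_apply]
        exact h4
      refine Subtype.ext (Subtype.ext ?_)
      rw [← x.2.choose_spec, ← y.2.choose_spec]
      exact h5
    · rw [Nat.card_prod, Nat.card_fun, Nat.card_eq_fintype_card (α := G), Fintype.card_coe]
  have hmain : Nat.card U0 ≤ nOrb σ0 * (Nat.card E ^ G.card * Nat.card C) :=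
    card_le_nOrb_mul σ0 id _ hbound
  -- arithmetic
  by_contra hcon
  rw [not_le] at hcon
  set M := (2 * d + 1) ^ 2
  have hEG : Nat.card E ^ G.card ≤ p ^ M := by
    refine (Nat.pow_le_pow_left hEle _).trans ?_
    rw [← pow_mul]
    refine Nat.pow_le_pow_right hp.out.pos ?_
    rw [show M = (2 * d + 1) * (2 * d + 1) from sq _]
    exact Nat.mul_le_mul_left _ hGle
  have hD : M + 2 ≤ p ^ d := card_bound_arith hp11 hd1
  have hC0 : 0 < Nat.card C := by omega
  have h1 : Nat.card C ^ (M + 1) * Nat.card C ≤ nOrb σ0 * p ^ M * Nat.card C := by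
    rw [← pow_succ]
    refine (Nat.pow_le_pow_right hC0 hD).trans ?_
    rw [← hd, mul_assoc]
    exact hU0card.trans (hmain.trans (Nat.mul_le_mul_left _ (Nat.mul_le_mul_right _ hEG)))
  have h2 := (Nat.pow_le_pow_left hpC (M + 1)).trans (Nat.le_of_mul_le_mul_right h1 hC0)
  rw [pow_succ, mul_comm (nOrb σ0)] at h2
  exact absurd (Nat.le_of_mul_le_mul_left h2 (pow_pos hp.out.pos M)) (not_le.2 hcon)

end Faithful

theorem nonabelian_bound_aux {k : Type*} [Field k] {p : ℕ} [Fact p.Prime] (hpk : (p : k) ≠ 0)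
    (hp11 : 11 ≤ p) : ∀ (d : ℕ) (U : Type u) [AddCommGroup U] [Module k U] [Finite U]
    (N : Type u) [Group N] [Finite N] (ρ : Representation k N U) (Q : Subgroup N),
    Module.finrank k U ≤ d → Function.Injective ρ → Q.Normal → IsPGroup p Q →
    (∃ x ∈ Q, ∃ y ∈ Q, x * y ≠ y * x) → p ≤ nOrb ρ := by
  intro d
  induction d using Nat.strong_induction_on with
  | _ d ih =>
    intro U _ _ _ N _ _ ρ Q hd hinj hQn hQp hnc
    by_contra hno
    rw [not_le] at hno
    have hrec : ∀ W : Submodule k U, W ≠ ⊤ → Q ≤ stab ρ W →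
        (∃ x ∈ Q, ∃ y ∈ Q, ∃ w ∈ W, ρ (x * y) w ≠ ρ (y * x) w) → p ≤ nOrb (restr ρ W) := by
      intro W hW hQW hex
      obtain ⟨x, hx, y, hy, w, hw, hne⟩ := hex
      have : Finite (Module.End k W) := Finite.of_injective _ DFunLike.coe_injective
      let φ := (MonoidHom.toHomUnits (restr ρ W)).rangeRestrict
      let Q1 := (Q.subgroupOf (stab ρ W)).map φ
      have hQ1n : Q1.Normal :=
        Subgroup.Normal.map inferInstance φ (MonoidHom.rangeRestrict_surjective _)
      have hQ1p : IsPGroup p Q1 :=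
        (hQp.comap_of_injective (stab ρ W).subtype Subtype.val_injective).map φ
      have hlt : Module.finrank k W < d := (Submodule.finrank_lt hW).trans_le hd
      refine (ih _ hlt W _ (imRep (restr ρ W)) Q1 le_rfl (imRep_injective _) hQ1n hQ1p ?_).trans
        (nOrb_imRep_le _)
      refine ⟨φ ⟨x, hQW hx⟩, ⟨_, hx, rfl⟩, φ ⟨y, hQW hy⟩, ⟨_, hy, rfl⟩, fun h => hne ?_⟩
      rw [← map_mul, ← map_mul] at h
      have h' := congrArg (fun T => ((T : Module.End k W) ⟨w, hw⟩ : U)) (congrArg (imRep _) h)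
      simpa [φ] using h'
    obtain ⟨E, z, hEn, -, hzE, hzp, -, hexp, hnab, hzc, hcom, hcen, hfpf⟩ :=
      exists_special ρ hinj hpk Q hQn hQp hnc (by omega)
        (fun Y h1 h2 h3 h4 => reduce_normal ρ hinj hpk Q hQn hQp hnc hrec hno h1 h2 h3 h4)
    obtain ⟨x, -, y, -, hxy⟩ := hnc
    have hU : ∃ v : U, v ≠ 0 := by
      by_contra hcon
      push Not at hcon
      exact hxy (hinj (LinearMap.ext fun v => by rw [hcon v, map_zero, map_zero]))
    refine absurd (special_bound ρ hpk hp11 E hEn hU ⟨z, hzE⟩ (Subtype.ext (by simpa using hzp))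
      (fun e => Subtype.ext (by simpa using hexp e.1 e.2)) ?_ (fun e => Subtype.ext (hzc e.1 e.2))
      (fun a b => ?_) (fun c hc => ?_) hfpf) (not_le.2 hno)
    · obtain ⟨a, ha, b, hb, hab⟩ := hnab
      exact ⟨⟨a, ha⟩, ⟨b, hb⟩, fun e => hab (congrArg Subtype.val e)⟩
    · obtain ⟨i, hi⟩ := hcom a.1 a.2 b.1 b.2
      exact ⟨i, Subtype.ext (by simpa [commutatorElement_def] using hi)⟩
    · obtain ⟨i, hi⟩ := hcen c.1 c.2 fun e he => congrArg Subtype.val (hc ⟨e, he⟩)
      exact ⟨i, Subtype.ext (by simpa using hi)⟩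

/-- A normal p-subgroup with non-abelian image forces at least `p` orbits on vectors. -/
theorem nonabelian_bound {k : Type*} [Field k] {p : ℕ} [Fact p.Prime] (hpk : (p : k) ≠ 0)
    (hp11 : 11 ≤ p) {U : Type u} [AddCommGroup U] [Module k U] [Finite U] {N : Type*} [Group N]
    [Finite N] (ρ : Representation k N U) (Q : Subgroup N) (hQn : Q.Normal) (hQp : IsPGroup p Q)
    (hnc : ∃ x ∈ Q, ∃ y ∈ Q, ρ x * ρ y ≠ ρ y * ρ x) : p ≤ nOrb ρ := by
  have : Finite (Module.End k U) := Finite.of_injective _ DFunLike.coe_injective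
  let φ := (MonoidHom.toHomUnits ρ).rangeRestrict
  obtain ⟨x, hx, y, hy, hxy⟩ := hnc
  refine (nonabelian_bound_aux hpk hp11 _ U _ (imRep ρ) (Q.map φ) le_rfl (imRep_injective ρ)
    (hQn.map φ (MonoidHom.rangeRestrict_surjective _)) (hQp.map φ) ?_).trans (nOrb_imRep_le ρ)
  refine ⟨φ x, ⟨x, hx, rfl⟩, φ y, ⟨y, hy, rfl⟩, fun h => hxy ?_⟩
  have h' := congrArg (imRep ρ) h
  rwa [map_mul, map_mul, imRep_rangeRestrict, imRep_rangeRestrict] at h'

end Cfsg.Agent.ClassBound
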