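import Mathlib.RepresentationTheory.Basic
import Mathlib.GroupTheory.PGroup
import Mathlib.Data.ZMod.Basic
import Mathlib.Algebra.Field.ZMod
import Mathlib.GroupTheory.GroupAction.Basic

/-!
# Orbit counts of linear actions

`nOrb ρ` is the number of orbits of a representation on the vectors of the space.  The main tools are
families of orthogonal idempotents permuted by the group (`Blocks`) and the decomposition of a module
over the hyperplanes of an elementary abelian normal subgroup of coprime exponent.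
-/

set_option autoImplicit false

namespace Cfsg.Agent.ClassBound

open Subgroup

variable {k U N M : Type*} [Field k] [AddCommGroup U] [Module k U] [Group N] [Group M]
variable (ρ : Representation k N U)

theorem rho_mul_apply (a b : N) (v : U) : ρ (a * b) v = ρ a (ρ b v) := by
  rw [map_mul, Module.End.mul_apply]

theorem rho_one_apply (v : U) : ρ 1 v = v := by
  rw [map_one, Module.End.one_apply]

theorem rho_inv_apply (a : N) (v : U) : ρ a⁻¹ (ρ a v) = v := by
  rw [← rho_mul_apply, inv_mul_cancel, rho_one_apply]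

theorem rho_apply_inv (a : N) (v : U) : ρ a (ρ a⁻¹ v) = v := by
  rw [← rho_mul_apply, mul_inv_cancel, rho_one_apply]

theorem rho_injective (a : N) : Function.Injective (ρ a) :=
  Function.LeftInverse.injective (rho_inv_apply ρ a)

/-- The orbit relation on vectors. -/
def orbSetoid : Setoid U where
  r v w := ∃ n, ρ n v = w
  iseqv :=
    ⟨fun v => ⟨1, rho_one_apply ρ v⟩,
      fun ⟨n, h⟩ => ⟨n⁻¹, by rw [← h, rho_inv_apply]⟩,
      fun ⟨n, h⟩ ⟨m, h'⟩ => ⟨m * n, by rw [rho_mul_apply, h, h']⟩⟩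

/-- The number of orbits on the vectors. -/
noncomputable def nOrb : ℕ := Nat.card (Quotient (orbSetoid ρ))

theorem card_le_nOrb_mul [Finite U] {X : Type*} [Finite X] (f : X → U) (m : ℕ)
    (h : ∀ x : X, Nat.card {x' : X // ∃ n, ρ n (f x) = f x'} ≤ m) :
    Nat.card X ≤ nOrb ρ * m := by
  classical
  have := Fintype.ofFinite X
  have := Fintype.ofFinite U
  let q : X → Quotient (orbSetoid ρ) := fun x => Quotient.mk (orbSetoid ρ) (f x)
  have := Fintype.ofFinite (Quotient (orbSetoid ρ))
  rw [nOrb, Nat.card_eq_fintype_card, Nat.card_eq_fintype_card, ← Finset.card_univ, mul_comm]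
  refine le_trans (Finset.card_le_mul_card_image (f := q) Finset.univ m ?_)
    (Nat.mul_le_mul_left _ (Finset.card_le_univ _))
  intro a ha
  obtain ⟨x, -, rfl⟩ := Finset.mem_image.1 ha
  refine le_trans (le_of_eq ?_) (h x)
  rw [Nat.card_eq_fintype_card, Fintype.card_subtype]
  congr 1
  ext x'
  simp only [Finset.mem_filter, Finset.mem_univ, true_and]
  constructor
  · intro hq
    obtain ⟨n, hn⟩ := Quotient.exact hq.symm
    exact ⟨n, hn⟩
  · intro hq
    exact (Quotient.sound (s := orbSetoid ρ) hq).symm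

theorem card_le_nOrb [Finite U] {X : Type*} [Finite X] (f : X → U)
    (h : ∀ x x' n, ρ n (f x) = f x' → x = x') : Nat.card X ≤ nOrb ρ := by
  have h1 := card_le_nOrb_mul ρ f 1 (fun x => ?_)
  · simpa using h1
  · have : Subsingleton {x' : X // ∃ n, ρ n (f x) = f x'} :=
      ⟨fun a b => Subtype.ext (by
        obtain ⟨n, hn⟩ := a.2
        obtain ⟨n', hn'⟩ := b.2
        rw [← h _ _ n hn, ← h _ _ n' hn'])⟩
    exact Finite.card_le_one_iff_subsingleton.2 this

theorem nOrb_le_of_orbits [Finite U] (ρ' : Representation k M U)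
    (h : ∀ n v, ∃ m, ρ' m v = ρ n v) : nOrb ρ' ≤ nOrb ρ := by
  let f : Quotient (orbSetoid ρ) → Quotient (orbSetoid ρ') :=
    Quotient.lift (fun v => Quotient.mk (orbSetoid ρ') v) (fun v w hvw => by
      obtain ⟨n, hn⟩ := hvw
      obtain ⟨m, hm⟩ := h n v
      exact Quotient.sound (s := orbSetoid ρ') ⟨m, hm.trans hn⟩)
  refine Nat.card_le_card_of_surjective f ?_
  intro q
  induction q using Quotient.inductionOn with
  | h v => exact ⟨Quotient.mk (orbSetoid ρ) v, rfl⟩

/-! ## Stabilisers of subspaces -/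

section Stab

variable [Finite N]

/-- The stabiliser of a subspace. -/
def stab (W : Submodule k U) : Subgroup N :=
  { carrier := {n | ∀ w ∈ W, ρ n w ∈ W}
    one_mem' := fun w hw => by rw [rho_one_apply]; exact hw
    mul_mem' := fun {a b} ha hb w hw => by rw [rho_mul_apply]; exact ha _ (hb _ hw)
    inv_mem' := fun {a} ha w hw => by
      have hpow : ∀ j : ℕ, ρ (a ^ j) w ∈ W := by
        intro j
        induction j with
        | zero => rw [pow_zero, rho_one_apply]; exact hw
        | succ j ih => rw [pow_succ', rho_mul_apply]; exact ha _ ih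
      have h := hpow (orderOf a - 1)
      have e : a ^ (orderOf a - 1) = a⁻¹ := by
        apply eq_inv_of_mul_eq_one_left
        rw [← pow_succ, Nat.sub_add_cancel (orderOf_pos a), pow_orderOf_eq_one]
      rwa [e] at h }

theorem mem_stab {W : Submodule k U} {n : N} : n ∈ stab ρ W ↔ ∀ w ∈ W, ρ n w ∈ W := Iff.rfl

/-- The action of the stabiliser on the subspace. -/
def restr (W : Submodule k U) : Representation k (stab ρ W) W where
  toFun n := (ρ n.1).restrict n.2
  map_one' := LinearMap.ext fun w => Subtype.ext (rho_one_apply ρ _)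
  map_mul' a b := LinearMap.ext fun w => Subtype.ext (rho_mul_apply ρ _ _ _)

@[simp]
theorem coe_restr_apply (W : Submodule k U) (n : stab ρ W) (w : W) :
    (restr ρ W n w : U) = ρ n.1 w := rfl

/-- If every group element carrying a nonzero vector of `W` into `W` stabilises `W`, the stabiliser has
no more orbits on `W` than the group has on `U`. -/
theorem nOrb_restr_le [Finite U] (W : Submodule k U)
    (h : ∀ n w, w ∈ W → w ≠ 0 → ρ n w ∈ W → n ∈ stab ρ W) : nOrb (restr ρ W) ≤ nOrb ρ := by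
  let f : Quotient (orbSetoid (restr ρ W)) → Quotient (orbSetoid ρ) :=
    Quotient.lift (fun w : W => Quotient.mk (orbSetoid ρ) (w : U)) (fun v w hvw => by
      obtain ⟨n, hn⟩ := hvw
      exact Quotient.sound (s := orbSetoid ρ) ⟨n.1, congrArg Subtype.val hn⟩)
  refine Nat.card_le_card_of_injective f ?_
  intro a b
  induction a, b using Quotient.inductionOn₂ with
  | h v w =>
    intro hvw
    obtain ⟨n, hn⟩ := Quotient.exact (s := orbSetoid ρ) hvw
    by_cases hv : (v : U) = 0
    · have hw : (w : U) = 0 := by rw [← hn, hv, map_zero]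
      have : v = w := Subtype.ext (hv.trans hw.symm)
      rw [this]
    · exact Quotient.sound (s := orbSetoid (restr ρ W))
        ⟨⟨n, h n v v.2 hv (by rw [hn]; exact w.2)⟩, Subtype.ext hn⟩

end Stab

/-- The stabiliser of a vector. -/
def fixer (v : U) : Subgroup N where
  carrier := {n | ρ n v = v}
  one_mem' := rho_one_apply ρ v
  mul_mem' {a b} (ha : ρ a v = v) (hb : ρ b v = v) := show ρ (a * b) v = v by
    rw [rho_mul_apply, hb, ha]
  inv_mem' {a} (ha : ρ a v = v) := show ρ a⁻¹ v = v by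
    conv_lhs => rw [← ha]
    exact rho_inv_apply ρ a v

theorem mem_fixer {v : U} {n : N} : n ∈ fixer ρ v ↔ ρ n v = v := Iff.rfl

/-! ## Orthogonal families of idempotents permuted by the group -/

/-- A family of nonzero orthogonal idempotents permuted by the group. -/
structure Blocks (ι : Type*) where
  e : ι → Module.End k U
  σ : N → ι → ι
  σ_inj : ∀ n, Function.Injective (σ n)
  equivariant : ∀ n i v, e (σ n i) (ρ n v) = ρ n (e i v)
  idem : ∀ i v, e i (e i v) = e i v
  orth : ∀ i j v, i ≠ j → e i (e j v) = 0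
  ne_zero : ∀ i, e i ≠ 0

namespace Blocks

variable {ρ} {ι : Type*} (F : Blocks ρ ι)

theorem apply_of_mem_range {i : ι} {w : U} (hw : w ∈ LinearMap.range (F.e i)) : F.e i w = w := by
  obtain ⟨v, rfl⟩ := hw
  exact F.idem i v

theorem map_mem_range (n : N) {i : ι} {w : U} (hw : w ∈ LinearMap.range (F.e i)) :
    ρ n w ∈ LinearMap.range (F.e (F.σ n i)) :=
  ⟨ρ n w, by rw [F.equivariant, F.apply_of_mem_range hw]⟩

theorem σ_eq_of_map_mem {n : N} {i : ι} {w : U} (hw : w ∈ LinearMap.range (F.e i)) (hw0 : w ≠ 0)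
    (hn : ρ n w ∈ LinearMap.range (F.e i)) : F.σ n i = i := by
  by_contra hne
  obtain ⟨v, hv⟩ := hn
  have h1 := F.orth _ i v hne
  rw [hv, F.apply_of_mem_range (F.map_mem_range n hw)] at h1
  exact hw0 (rho_injective ρ n (h1.trans (map_zero _).symm))

theorem mem_stab_of_σ_eq [Finite N] {n : N} {i : ι} (h : F.σ n i = i) :
    n ∈ stab ρ (LinearMap.range (F.e i)) := fun w hw => by
  have := F.map_mem_range n hw
  rwa [h] at this

theorem nOrb_restr_le [Finite N] [Finite U] (i : ι) :
    nOrb (restr ρ (LinearMap.range (F.e i))) ≤ nOrb ρ :=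
  ClassBound.nOrb_restr_le ρ _ fun _ _ hw hw0 hn => F.mem_stab_of_σ_eq (F.σ_eq_of_map_mem hw hw0 hn)

theorem ne_top_of_ne {i j : ι} (hij : i ≠ j) : LinearMap.range (F.e i) ≠ ⊤ := by
  intro h
  refine F.ne_zero j (LinearMap.ext fun v => ?_)
  have h1 : F.e i (F.e j v) = F.e j v := F.apply_of_mem_range (by rw [h]; trivial)
  rw [← h1, F.orth i j v hij, LinearMap.zero_apply]

/-- The set of blocks meeting a vector. -/
noncomputable def supp [Fintype ι] (v : U) : Finset ι := by
  classical exact Finset.univ.filter fun i => F.e i v ≠ 0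

theorem mem_supp [Fintype ι] {v : U} {i : ι} : i ∈ F.supp v ↔ F.e i v ≠ 0 := by
  classical simp [supp]

theorem supp_map [Fintype ι] [DecidableEq ι] (n : N) (v : U) :
    F.supp (ρ n v) = (F.supp v).image (F.σ n) := by
  have hne : ∀ x : U, ρ n x ≠ 0 ↔ x ≠ 0 := fun x => by
    constructor
    · rintro h rfl; exact h (map_zero _)
    · exact fun h h0 => h (rho_injective ρ n (h0.trans (map_zero _).symm))
  ext j
  obtain ⟨i, rfl⟩ := (Finite.injective_iff_surjective.1 (F.σ_inj n)) j
  rw [(F.σ_inj n).mem_finset_image, F.mem_supp, F.mem_supp, F.equivariant, hne]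

theorem exists_supp_eq [Fintype ι] (S : Finset ι) : ∃ v : U, F.supp v = S := by
  classical
  have h : ∀ i, ∃ v, F.e i v ≠ 0 := fun i => by
    by_contra hc
    push Not at hc
    exact F.ne_zero i (LinearMap.ext hc)
  choose w hw using h
  refine ⟨∑ i ∈ S, F.e i (w i), ?_⟩
  ext j
  rw [F.mem_supp, map_sum]
  by_cases hj : j ∈ S
  · rw [Finset.sum_eq_single j (fun i _ hij => F.orth j i _ hij.symm) (fun h => absurd hj h),
      F.idem]
    simp [hj, hw j]
  · rw [Finset.sum_eq_zero fun i hi => F.orth j i _ (fun e => hj (e ▸ hi))]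
    simp [hj]

theorem card_le_nOrb [Finite U] [Finite ι] (F : Blocks ρ ι) : Nat.card ι ≤ nOrb ρ := by
  classical
  have := Fintype.ofFinite ι
  let q := Fintype.equivFin ι
  let S : ι → Finset ι := fun i => Finset.univ.filter fun j => q j ≤ q i
  choose v hv using fun i => F.exists_supp_eq (S i)
  refine ClassBound.card_le_nOrb ρ v ?_
  intro i i' n hn
  have hS : S i' = (S i).image (F.σ n) := by rw [← hv, ← hv, ← hn, F.supp_map]
  have hc : (S i').card = (S i).card := by rw [hS, Finset.card_image_of_injective _ (F.σ_inj n)]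
  rcases lt_trichotomy (q i) (q i') with h | h | h
  · refine absurd hc (ne_of_gt (Finset.card_lt_card ?_))
    refine Finset.ssubset_iff_of_subset (fun j hj => ?_) |>.2 ⟨i', by simp [S], by simp [S, h]⟩
    simp only [S, Finset.mem_filter, Finset.mem_univ, true_and] at hj ⊢
    exact hj.trans h.le
  · exact q.injective h
  · refine absurd hc.symm (ne_of_gt (Finset.card_lt_card ?_))
    refine Finset.ssubset_iff_of_subset (fun j hj => ?_) |>.2 ⟨i, by simp [S], by simp [S, h]⟩
    simp only [S, Finset.mem_filter, Finset.mem_univ, true_and] at hj ⊢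
    exact hj.trans h.le

theorem two_pow_le [Finite U] [Finite ι] (F : Blocks ρ ι) :
    2 ^ Nat.card ι ≤ nOrb ρ * Nat.card (Set.range F.σ) := by
  classical
  have := Fintype.ofFinite ι
  choose v hv using fun S => F.exists_supp_eq S
  have h := ClassBound.card_le_nOrb_mul ρ v (Nat.card (Set.range F.σ)) (fun S => ?_)
  · rwa [Nat.card_eq_fintype_card, Fintype.card_finset, ← Nat.card_eq_fintype_card] at h
  · let g : Set.range F.σ → Finset ι := fun s => S.image s.1
    refine le_trans (Nat.card_le_card_of_injective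
      (fun x : {S' // ∃ n, ρ n (v S) = v S'} => (⟨x.1, ?_⟩ : Set.range g))
      (fun a b hab => Subtype.ext (congrArg Subtype.val hab :))) ?_
    · obtain ⟨n, hn⟩ := x.2
      refine ⟨⟨F.σ n, n, rfl⟩, ?_⟩
      show S.image (F.σ n) = x.1
      have e := F.supp_map n (v S)
      rw [hn, hv, hv] at e
      exact e.symm
    · exact Finite.card_range_le g

end Blocks

/-! ## Averaging operators -/

section Avg

variable [Finite N]

/-- The average over a subgroup. -/
noncomputable def avg (B : Subgroup N) : Module.End k U :=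
  letI := Fintype.ofFinite B
  (Nat.card B : k)⁻¹ • ∑ b : B, ρ b

theorem avg_apply (B : Subgroup N) (v : U) [Fintype B] :
    avg ρ B v = (Nat.card B : k)⁻¹ • ∑ b : B, ρ b v := by
  rw [avg, LinearMap.smul_apply, LinearMap.sum_apply]
  congr
  exact Subsingleton.elim _ _

theorem rho_avg {B : Subgroup N} {b : N} (hb : b ∈ B) (v : U) : ρ b (avg ρ B v) = avg ρ B v := by
  have := Fintype.ofFinite B
  rw [avg_apply, map_smul, map_sum]
  congr 1
  exact Fintype.sum_equiv (Equiv.mulLeft ⟨b, hb⟩) _ _ fun x => (rho_mul_apply ρ _ _ v).symm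

theorem avg_rho {B : Subgroup N} {b : N} (hb : b ∈ B) (v : U) : avg ρ B (ρ b v) = avg ρ B v := by
  have := Fintype.ofFinite B
  rw [avg_apply, avg_apply]
  congr 1
  exact Fintype.sum_equiv (Equiv.mulRight ⟨b, hb⟩) _ _ fun x => (rho_mul_apply ρ _ _ v).symm

theorem avg_of_fixed {B : Subgroup N} (hB : (Nat.card B : k) ≠ 0) {v : U}
    (hv : ∀ b ∈ B, ρ b v = v) : avg ρ B v = v := by
  have := Fintype.ofFinite B
  rw [avg_apply, Finset.sum_congr rfl fun (b : B) _ => hv b b.2, Finset.sum_const, Finset.card_univ,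
    ← Nat.card_eq_fintype_card, ← Nat.cast_smul_eq_nsmul k, smul_smul, inv_mul_cancel₀ hB,
    one_smul]

theorem rho_avg_comm {B : Subgroup N} {y : N} (hy : ∀ b ∈ B, b * y = y * b) (v : U) :
    ρ y (avg ρ B v) = avg ρ B (ρ y v) := by
  have := Fintype.ofFinite B
  rw [avg_apply, avg_apply, map_smul, map_sum]
  congr 1
  refine Finset.sum_congr rfl fun b _ => ?_
  rw [← rho_mul_apply, ← rho_mul_apply, hy b b.2]

theorem avg_conj (n : N) (B : Subgroup N) (v : U) :
    avg ρ (B.map (MulAut.conj n).toMonoidHom) (ρ n v) = ρ n (avg ρ B v) := by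
  have := Fintype.ofFinite B
  have := Fintype.ofFinite (B.map (MulAut.conj n).toMonoidHom)
  let e := (B.equivMapOfInjective (MulAut.conj n).toMonoidHom (MulAut.conj n).injective).toEquiv
  rw [avg_apply, avg_apply, map_smul, map_sum, Nat.card_congr e]
  congr 1
  refine (Fintype.sum_equiv e _ _ fun b => ?_).symm
  show ρ n (ρ b v) = ρ (n * b * n⁻¹) (ρ n v)
  rw [← rho_mul_apply, ← rho_mul_apply, inv_mul_cancel_right]

theorem avg_avg_of_le {B Y : Subgroup N} (hBY : B ≤ Y) (hB : (Nat.card B : k) ≠ 0) (v : U) :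
    avg ρ Y (avg ρ B v) = avg ρ Y v := by
  have := Fintype.ofFinite B
  rw [avg_apply ρ B, map_smul, map_sum, Finset.sum_congr rfl fun (b : B) _ => avg_rho ρ (hBY b.2) v,
    Finset.sum_const, Finset.card_univ, ← Nat.card_eq_fintype_card, ← Nat.cast_smul_eq_nsmul k,
    smul_smul, inv_mul_cancel₀ hB, one_smul]

end Avg

/-! ## The decomposition over the hyperplanes of an elementary abelian subgroup -/

section Hyperplanes

variable [Finite N] (p : ℕ) [hp : Fact p.Prime] (Y : Subgroup N)

/-- `Y` or a hyperplane of `Y`. -/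
def IsHyp (B : Subgroup N) : Prop := B = Y ∨ (B ≤ Y ∧ Nat.card B * p = Nat.card Y)

open scoped Classical in
/-- The projection onto the vectors whose stabiliser in `Y` is exactly `B`. -/
noncomputable def proj (B : Subgroup N) : Module.End k U :=
  if B = Y then avg ρ Y else avg ρ B - avg ρ Y

variable {p} {Y}

omit [Finite N] hp in
theorem IsHyp.le {B : Subgroup N} (hB : IsHyp p Y B) : B ≤ Y := hB.elim le_of_eq And.left

theorem card_ne_zero_of_le (hY : IsPGroup p Y) (hpk : (p : k) ≠ 0) {B : Subgroup N} (hB : B ≤ Y) :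
    (Nat.card B : k) ≠ 0 := by
  obtain ⟨m, hm⟩ := (hY.to_le hB).exists_card_eq
  rw [hm, Nat.cast_pow]
  exact pow_ne_zero _ hpk

theorem sup_eq_of_hyp {B B' : Subgroup N} (hB : B ≤ Y) (hB2 : Nat.card B * p = Nat.card Y)
    (hB' : B' ≤ Y) (hB2' : Nat.card B' * p = Nat.card Y) (hne : B ≠ B') : B ⊔ B' = Y := by
  have hle : B ⊔ B' ≤ Y := sup_le hB hB'
  obtain ⟨c, hc⟩ := Subgroup.card_dvd_of_le (le_sup_left : B ≤ B ⊔ B')
  have hd : c ∣ p := by
    have h := Subgroup.card_dvd_of_le hle
    rw [hc, ← hB2] at h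
    exact Nat.dvd_of_mul_dvd_mul_left Nat.card_pos h
  rcases (Nat.dvd_prime hp.out).1 hd with rfl | rfl
  · exfalso
    have h1 : B = B ⊔ B' := Subgroup.eq_of_le_of_card_ge le_sup_left (by rw [hc, mul_one])
    have h2 : B' ≤ B := h1 ▸ le_sup_right
    refine hne (Subgroup.eq_of_le_of_card_ge h2 ?_).symm
    exact le_of_eq (Nat.eq_of_mul_eq_mul_right hp.out.pos (hB2.trans hB2'.symm))
  · exact Subgroup.eq_of_le_of_card_ge hle (by rw [hc, hB2])

theorem proj_self : proj ρ Y Y = avg ρ Y := if_pos rfl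

theorem proj_of_ne {B : Subgroup N} (h : B ≠ Y) : proj ρ Y B = avg ρ B - avg ρ Y := if_neg h

theorem proj_equivariant [hn : Y.Normal] (n : N) (B : Subgroup N) (v : U) :
    proj ρ Y (B.map (MulAut.conj n).toMonoidHom) (ρ n v) = ρ n (proj ρ Y B v) := by
  have hYn : Y.map (MulAut.conj n).toMonoidHom = Y := by
    ext y
    simp only [Subgroup.mem_map, MulEquiv.coe_toMonoidHom, MulAut.conj_apply]
    constructor
    · rintro ⟨x, hx, rfl⟩; exact hn.conj_mem x hx n
    · exact fun hy => ⟨n⁻¹ * y * n, by simpa using hn.conj_mem y hy n⁻¹, by group⟩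
  have hYv : avg ρ Y (ρ n v) = ρ n (avg ρ Y v) := by
    conv_lhs => rw [← hYn]
    exact avg_conj ρ n Y v
  by_cases hB : B = Y
  · subst hB
    rw [hYn, proj_self, hYv]
  · have hB' : B.map (MulAut.conj n).toMonoidHom ≠ Y := fun h =>
      hB (Subgroup.map_injective (MulAut.conj n).injective (h.trans hYn.symm))
    rw [proj_of_ne ρ hB, proj_of_ne ρ hB', LinearMap.sub_apply, LinearMap.sub_apply, avg_conj, hYv,
      map_sub]

/-- Vectors in the image of the projection are fixed by `B`. -/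
theorem rho_proj {B : Subgroup N} (hB : B ≤ Y) {b : N} (hb : b ∈ B) (v : U) :
    ρ b (proj ρ Y B v) = proj ρ Y B v := by
  by_cases h : B = Y
  · subst h
    rw [proj_self, rho_avg ρ hb]
  · rw [proj_of_ne ρ h, LinearMap.sub_apply, map_sub, rho_avg ρ hb, rho_avg ρ (hB hb)]

theorem proj_comm (habel : ∀ a ∈ Y, ∀ b ∈ Y, a * b = b * a) {B : Subgroup N} (hB : B ≤ Y)
    {y : N} (hy : y ∈ Y) (v : U) : ρ y (proj ρ Y B v) = proj ρ Y B (ρ y v) := by
  have h1 := rho_avg_comm ρ (B := Y) (y := y) (fun b hb => habel b hb y hy) v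
  by_cases h : B = Y
  · subst h
    rw [proj_self, h1]
  · rw [proj_of_ne ρ h, LinearMap.sub_apply, LinearMap.sub_apply, map_sub, h1,
      rho_avg_comm ρ (fun b hb => habel b (hB hb) y hy)]

section

variable (hY : IsPGroup p Y) (hpk : (p : k) ≠ 0) (habel : ∀ a ∈ Y, ∀ b ∈ Y, a * b = b * a)

include hY hpk

theorem avg_proj {B : Subgroup N} (hB : IsHyp p Y B) (hne : B ≠ Y) (v : U) :
    avg ρ Y (proj ρ Y B v) = 0 := by
  rw [proj_of_ne ρ hne, LinearMap.sub_apply, map_sub,
    avg_avg_of_le ρ hB.le (card_ne_zero_of_le hY hpk hB.le),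
    avg_of_fixed ρ (card_ne_zero_of_le hY hpk le_rfl) fun b hb => rho_avg ρ hb v, sub_self]

theorem proj_idem {B : Subgroup N} (hB : IsHyp p Y B) (v : U) :
    proj ρ Y B (proj ρ Y B v) = proj ρ Y B v := by
  by_cases h : B = Y
  · subst h
    rw [proj_self, avg_of_fixed ρ (card_ne_zero_of_le hY hpk le_rfl) fun b hb => rho_avg ρ hb v]
  · conv_lhs => rw [proj_of_ne ρ h, LinearMap.sub_apply, ← proj_of_ne ρ h]
    rw [avg_proj ρ hY hpk hB h, sub_zero,
      avg_of_fixed ρ (card_ne_zero_of_le hY hpk hB.le) fun b hb => rho_proj ρ hB.le hb v]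

include habel

theorem proj_orth {B B' : Subgroup N} (hB : IsHyp p Y B) (hB' : IsHyp p Y B') (hne : B ≠ B')
    (v : U) : proj ρ Y B (proj ρ Y B' v) = 0 := by
  by_cases h : B = Y
  · subst h
    rw [proj_self, avg_proj ρ hY hpk hB' hne.symm]
  · conv_lhs => rw [proj_of_ne ρ h, LinearMap.sub_apply]
    by_cases h' : B' = Y
    · subst h'
      rw [proj_self, avg_of_fixed ρ (card_ne_zero_of_le hY hpk hB.le)
          fun b hb => rho_avg ρ (hB.le hb) v,
        avg_of_fixed ρ (card_ne_zero_of_le hY hpk le_rfl) fun b hb => rho_avg ρ hb v, sub_self]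
    · rw [avg_proj ρ hY hpk hB' h', sub_zero]
      set x := avg ρ B (proj ρ Y B' v) with hx
      have hfix : Y ≤ fixer ρ x := by
        rw [← sup_eq_of_hyp (hB.resolve_left h).1 (hB.resolve_left h).2 (hB'.resolve_left h').1
          (hB'.resolve_left h').2 hne]
        refine sup_le (fun b hb => rho_avg ρ hb _) (fun b hb => ?_)
        rw [mem_fixer, hx, rho_avg_comm ρ (fun a ha => habel a (hB.le ha) b (hB'.le hb)),
          rho_proj ρ hB'.le hb]
      rw [← avg_of_fixed ρ (card_ne_zero_of_le hY hpk le_rfl) fun b hb => hfix hb, hx,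
        avg_avg_of_le ρ hB.le (card_ne_zero_of_le hY hpk hB.le), avg_proj ρ hY hpk hB' h']

end

/-- The blocks of an elementary abelian normal subgroup. -/
noncomputable def hypBlocks [hn : Y.Normal] (hY : IsPGroup p Y) (hpk : (p : k) ≠ 0)
    (habel : ∀ a ∈ Y, ∀ b ∈ Y, a * b = b * a) :
    Blocks ρ {B : Subgroup N // IsHyp p Y B ∧ proj ρ Y B ≠ 0} where
  e i := proj ρ Y i.1
  σ n i := ⟨i.1.map (MulAut.conj n).toMonoidHom, by
    refine ⟨?_, fun h0 => i.2.2 (LinearMap.ext fun v => ?_)⟩
    · have hle : ∀ B : Subgroup N, B ≤ Y → B.map (MulAut.conj n).toMonoidHom ≤ Y := by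
        rintro B hB _ ⟨x, hx, rfl⟩
        exact hn.conj_mem x (hB hx) n
      have hc : ∀ B : Subgroup N,
          Nat.card (B.map (MulAut.conj n).toMonoidHom) = Nat.card B := fun B =>
        (Nat.card_congr (B.equivMapOfInjective _ (MulAut.conj n).injective).toEquiv).symm
      rcases i.2.1 with h | ⟨h1, h2⟩
      · left
        rw [h]
        exact Subgroup.eq_of_le_of_card_ge (hle Y le_rfl) (hc Y).ge
      · exact Or.inr ⟨hle _ h1, by rw [hc, h2]⟩
    · refine rho_injective ρ n ?_
      rw [← proj_equivariant, h0, LinearMap.zero_apply, LinearMap.zero_apply, map_zero]⟩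
  σ_inj n a b h := Subtype.ext (Subgroup.map_injective (MulAut.conj n).injective
    (congrArg Subtype.val h :))
  equivariant n i v := proj_equivariant ρ n i.1 v
  idem i v := proj_idem ρ hY hpk i.2.1 v
  orth i j v h := proj_orth ρ hY hpk habel i.2.1 j.2.1 (fun e => h (Subtype.ext e)) v
  ne_zero i := i.2.2

omit [Finite N] in
theorem pow_val_add {g : N} (hg : g ^ p = 1) (i j : ZMod p) :
    g ^ (i + j).val = g ^ i.val * g ^ j.val := by
  rw [← pow_add, ZMod.val_add, ← pow_eq_pow_mod _ hg]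

omit [Finite N] in
theorem pow_val_mul {g : N} (hg : g ^ p = 1) (i j : ZMod p) :
    g ^ (i * j).val = (g ^ i.val) ^ j.val := by
  rw [← pow_mul, ZMod.val_mul, ← pow_eq_pow_mod _ hg]

omit [Finite N] in
theorem rho_sum_line (v : U) {g : N} (hg : g ^ p = 1) :
    ρ g (∑ j : ZMod p, ρ (g ^ j.val) v) = ∑ j : ZMod p, ρ (g ^ j.val) v := by
  have : Fact (1 < p) := ⟨hp.out.one_lt⟩
  rw [map_sum]
  refine Fintype.sum_equiv (Equiv.addLeft (1 : ZMod p)) _ _ fun j => ?_
  rw [Equiv.coe_addLeft, pow_val_add hg, ZMod.val_one, pow_one, rho_mul_apply]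

omit [Finite N] in
theorem sum_lines (v : U) {x y : N} (hy : y ^ p = 1) (hxy : Commute x y) :
    (∑ i : ZMod p, ∑ j : ZMod p, ρ ((x * y ^ i.val) ^ j.val) v) + ∑ j : ZMod p, ρ (y ^ j.val) v
      = (p : k) • v + ∑ j : ZMod p, ∑ i : ZMod p, ρ (x ^ j.val * y ^ i.val) v := by
  classical
  rw [Finset.sum_comm, ← Finset.add_sum_erase _ _ (Finset.mem_univ (0 : ZMod p)),
    ← Finset.add_sum_erase _ (fun j => ∑ i : ZMod p, ρ (x ^ j.val * y ^ i.val) v)
      (Finset.mem_univ (0 : ZMod p))]
  have h0 : (∑ i : ZMod p, ρ ((x * y ^ i.val) ^ (0 : ZMod p).val) v) = (p : k) • v := by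
    simp [ZMod.card, Nat.cast_smul_eq_nsmul]
  have h0' : (∑ i : ZMod p, ρ (x ^ (0 : ZMod p).val * y ^ i.val) v)
      = ∑ j : ZMod p, ρ (y ^ j.val) v := by simp
  have hrest : ∀ j ∈ Finset.univ.erase (0 : ZMod p),
      (∑ i : ZMod p, ρ ((x * y ^ i.val) ^ j.val) v) = ∑ i : ZMod p, ρ (x ^ j.val * y ^ i.val) v := by
    intro j hj
    refine Fintype.sum_equiv (Equiv.mulRight₀ j (Finset.mem_erase.1 hj).1) _ _ fun i => ?_
    rw [(hxy.pow_right i.val).mul_pow, ← pow_val_mul hy]
    rfl
  rw [h0, h0', Finset.sum_congr rfl hrest]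
  abel

/-- A subspace containing all the blocks of `Y` is everything. -/
theorem eq_top_of_proj_mem (hpk : (p : k) ≠ 0) (habel : ∀ a ∈ Y, ∀ b ∈ Y, a * b = b * a)
    (hexp : ∀ a ∈ Y, a ^ p = 1) {W : Submodule k U}
    (hW : ∀ B, IsHyp p Y B → LinearMap.range (proj ρ Y B) ≤ W) : W = ⊤ := by
  classical
  have hY : IsPGroup p Y := fun a => ⟨1, Subtype.ext (by simpa using hexp a.1 a.2)⟩
  suffices main : ∀ d, ∀ B : Subgroup N, B ≤ Y → Nat.card Y ≤ Nat.card B + d →
      ∀ v, (∀ b ∈ B, ρ b v = v) → v ∈ W by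
    exact eq_top_iff.2 fun v _ => main (Nat.card Y) ⊥ bot_le (Nat.le_add_left _ _) v fun b hb => by
      rw [Subgroup.mem_bot.1 hb, rho_one_apply]
  intro d
  induction d using Nat.strong_induction_on with
  | _ d ih =>
    intro B hB hd v hv
    by_cases hBY : B = Y
    · subst hBY
      refine hW B (Or.inl rfl) ⟨v, ?_⟩
      rw [proj_self, avg_of_fixed ρ (card_ne_zero_of_le hY hpk le_rfl) hv]
    by_cases hhyp : Nat.card B * p = Nat.card Y
    · have h1 : v = proj ρ Y B v + proj ρ Y Y v := by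
        rw [proj_of_ne ρ hBY, proj_self, LinearMap.sub_apply, sub_add_cancel,
          avg_of_fixed ρ (card_ne_zero_of_le hY hpk hB) hv]
      rw [h1]
      exact W.add_mem (hW B (Or.inr ⟨hB, hhyp⟩) ⟨v, rfl⟩) (hW Y (Or.inl rfl) ⟨v, rfl⟩)
    have bigger : ∀ g ∈ Y, g ∉ B → ∀ u, (∀ b ∈ B, ρ b u = u) → ρ g u = u → u ∈ W := by
      intro g hgY hgB u hu hgu
      have hlt : Nat.card B < Nat.card (B ⊔ zpowers g : Subgroup N) := by
        refine lt_of_le_of_ne (Subgroup.card_le_of_le le_sup_left) fun h => hgB ?_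
        rw [Subgroup.eq_of_le_of_card_ge (le_sup_left : B ≤ B ⊔ zpowers g) h.ge]
        exact (le_sup_right : zpowers g ≤ B ⊔ zpowers g) (mem_zpowers g)
      have hle : B ⊔ zpowers g ≤ Y := sup_le hB (zpowers_le.2 hgY)
      have hfix : B ⊔ zpowers g ≤ fixer ρ u := sup_le hu (zpowers_le.2 hgu)
      have hcl := Subgroup.card_le_of_le hle
      exact ih (Nat.card Y - Nat.card (B ⊔ zpowers g : Subgroup N)) (by omega) _ hle (by omega) u
        fun b hb => hfix hb
    obtain ⟨x, hxY, hxB⟩ : ∃ x ∈ Y, x ∉ B := SetLike.exists_of_lt (lt_of_le_of_ne hB hBY)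
    -- every `b * x ^ i` lies in a proper subgroup of `Y`
    let S : Set N := {w | ∃ b ∈ B, ∃ i : ℕ, w = b * x ^ i}
    obtain ⟨y, hyY, hyS⟩ : ∃ y ∈ Y, y ∉ S := by
      by_contra hcon
      push Not at hcon
      let f : B × Fin p → N := fun q => q.1.1 * x ^ q.2.1
      have hsurj : ∀ w ∈ Y, ∃ q, f q = w := by
        intro w hw
        obtain ⟨b, hb, i, rfl⟩ := hcon w hw
        exact ⟨⟨⟨b, hb⟩, ⟨i % p, Nat.mod_lt _ hp.out.pos⟩⟩,
          by simp [f, ← pow_eq_pow_mod _ (hexp x hxY)]⟩
      choose q hq using hsurj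
      have hcard : Nat.card Y ≤ Nat.card B * p := by
        have := Nat.card_le_card_of_injective (fun w : Y => q w.1 w.2) (fun a b hab => Subtype.ext
          (by rw [← hq a.1 a.2, ← hq b.1 b.2]; exact congrArg f hab))
        simpa [Nat.card_prod] using this
      obtain ⟨c, hc⟩ := Subgroup.card_dvd_of_le hB
      obtain ⟨m, hm⟩ := hY.exists_card_eq
      have hc1 : c ≠ 1 := fun h => hBY (Subgroup.eq_of_le_of_card_ge hB (by rw [hc, h, mul_one]))
      have hcp : p ∣ c := by
        obtain ⟨j, -, rfl⟩ := (Nat.dvd_prime_pow hp.out).1 (hm ▸ Dvd.intro_left _ hc.symm : c ∣ p ^ m)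
        exact dvd_pow_self p fun h => hc1 (by rw [h, pow_zero])
      have hcle : c ≤ p := by
        rw [hc] at hcard
        exact Nat.le_of_mul_le_mul_left hcard Nat.card_pos
      exact hhyp (by rw [hc, le_antisymm (Nat.le_of_dvd (Nat.pos_of_ne_zero fun h => by
        rw [h, mul_zero] at hc; exact Nat.card_pos.ne' hc) hcp) hcle])
    have hyB : y ∉ B := fun h => hyS ⟨y, h, 0, by simp⟩
    have hxp := hexp x hxY
    have hyp := hexp y hyY
    have hxy : Commute x y := habel x hxY y hyY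
    have hfixsum : ∀ g ∈ Y, ∀ b ∈ B, ρ b (∑ j : ZMod p, ρ (g ^ j.val) v)
        = ∑ j : ZMod p, ρ (g ^ j.val) v := fun g hg b hb => by
      rw [map_sum]
      refine Finset.sum_congr rfl fun j _ => ?_
      rw [← rho_mul_apply, habel b (hB hb) _ (Y.pow_mem hg _), rho_mul_apply, hv b hb]
    have hline : ∀ g ∈ Y, g ∉ B → (∑ j : ZMod p, ρ (g ^ j.val) v) ∈ W := fun g hg hgB =>
      bigger g hg hgB _ (hfixsum g hg) (rho_sum_line ρ v (hexp g hg))
    have hlines : ∀ i : ZMod p, x * y ^ i.val ∉ B := by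
      intro i hi
      by_cases h0 : i = 0
      · subst h0; exact hxB (by simpa using hi)
      · refine hyS ?_
        -- `y = (x⁻¹ (x y^i))^(1/i)`
        have e1 : y = ((x * y ^ i.val) ^ (i⁻¹ : ZMod p).val) * x ^ (-(i⁻¹) : ZMod p).val := by
          rw [(hxy.pow_right i.val).mul_pow, ← pow_val_mul hyp, mul_inv_cancel₀ h0, ZMod.val_one,
            pow_one, mul_assoc, (hxy.pow_left _).symm.eq, ← mul_assoc, ← pow_val_add hxp,
            add_neg_cancel, ZMod.val_zero, pow_zero, one_mul]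
        exact ⟨_, B.pow_mem hi _, _, e1⟩
    have hall : (∑ j : ZMod p, ∑ i : ZMod p, ρ (x ^ j.val * y ^ i.val) v) ∈ W := by
      refine bigger x hxY hxB _ (fun b hb => ?_) ?_
      · simp_rw [map_sum]
        refine Finset.sum_congr rfl fun j _ => Finset.sum_congr rfl fun i _ => ?_
        rw [← rho_mul_apply, habel b (hB hb) _ (Y.mul_mem (Y.pow_mem hxY _) (Y.pow_mem hyY _)),
          rho_mul_apply, hv b hb]
      · have : Fact (1 < p) := ⟨hp.out.one_lt⟩
        simp_rw [map_sum]
        refine Fintype.sum_equiv (Equiv.addLeft (1 : ZMod p)) _ _ fun j => ?_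
        refine Finset.sum_congr rfl fun i _ => ?_
        rw [Equiv.coe_addLeft, pow_val_add hxp, ZMod.val_one, pow_one, mul_assoc]
        simp only [rho_mul_apply]
    have hpv : (p : k) • v ∈ W := by
      rw [eq_sub_of_add_eq (sum_lines ρ v hyp hxy).symm]
      exact W.sub_mem (W.add_mem (W.sum_mem fun i _ =>
        hline _ (Y.mul_mem hxY (Y.pow_mem hyY _)) (hlines i)) (hline y hyY hyB)) hall
    simpa [smul_smul, inv_mul_cancel₀ hpk] using W.smul_mem (p : k)⁻¹ hpv

end Hyperplanes

end Cfsg.Agent.ClassBound
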